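import Cfsg.Agent.Lib.ThreeTI.Grid.Main
import Mathlib.GroupTheory.SpecificGroups.KleinFour
import Mathlib.GroupTheory.NoncommCoprod

/-!
Recognising the model `S₃ × S₃` in the normaliser of a Sylow 3-subgroup of order 9.
-/

set_option autoImplicit false
set_option linter.style.haveILetI false

namespace Cfsg.Agent.ThreeTI.Grid

open Cfsg Cfsg.Agent.LocalTI

universe u

variable {G : Type u} [Group G] [Finite G]

/-- Two elements of a klein four-group generate it and the sets of values are as expected. -/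
theorem klein_elems {V : Type*} [Group V] [IsKleinFour V] :
    ∃ a b : V, a ≠ 1 ∧ b ≠ 1 ∧ a ≠ b ∧ a * a = 1 ∧ b * b = 1 ∧ a * b = b * a ∧
      ∀ v : V, v = 1 ∨ v = a ∨ v = b ∨ v = a * b := by
  classical
  haveI : Finite V := Nat.finite_of_card_ne_zero (by rw [IsKleinFour.card_four]; omega)
  haveI := Fintype.ofFinite V
  have hc : Fintype.card V = 4 := by rw [← Nat.card_eq_fintype_card]; exact IsKleinFour.card_four
  obtain ⟨a, ha⟩ : ∃ a : V, a ≠ 1 := Fintype.exists_ne_of_one_lt_card (by omega) 1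
  obtain ⟨b, hb⟩ : ∃ b : V, b ∉ ({1, a} : Finset V) := by
    by_contra h
    push Not at h
    have := Finset.card_le_card (s := Finset.univ) fun v _ => h v
    rw [Finset.card_univ, hc, Finset.card_pair ha.symm] at this
    omega
  simp only [Finset.mem_insert, Finset.mem_singleton, not_or] at hb
  have h2 : ∀ v : V, v * v = 1 := fun v => IsKleinFour.mul_self v
  have hinv : ∀ v : V, v⁻¹ = v := fun v => inv_eq_of_mul_eq_one_right (h2 v)
  refine ⟨a, b, ha, hb.1, fun e => hb.2 e.symm, h2 a, h2 b, ?_, fun v => ?_⟩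
  · rw [← hinv (a * b), mul_inv_rev, hinv, hinv]
  · by_contra h
    push Not at h
    obtain ⟨h1, h3, h4, h5⟩ := h
    have e1 : a * b ≠ 1 := fun e => hb.2 ((eq_inv_of_mul_eq_one_right e).trans (hinv a))
    have e2 : a * b ≠ a := fun e => hb.1 (mul_eq_left.1 e)
    have e3 : a * b ≠ b := fun e => ha (mul_eq_right.1 e)
    have hcard : ({1, a, b, a * b, v} : Finset V).card = 5 := by
      rw [Finset.card_insert_of_notMem (by simp [ha.symm, Ne.symm hb.1, e1.symm, h1.symm]),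
        Finset.card_insert_of_notMem (by simp [Ne.symm hb.2, e2.symm, h3.symm]),
        Finset.card_insert_of_notMem (by simp [e3.symm, h4.symm]),
        Finset.card_pair h5.symm]
    have := Finset.card_le_univ ({1, a, b, a * b, v} : Finset V)
    omega

theorem cube_gen : ∀ h : Mod, h * h * h = 1 →
    ∃ i j : Fin 3, h = ((DihedralGroup.r 1, 1) : Mod) ^ i.val * (1, DihedralGroup.r 1) ^ j.val := by
  decide +kernel

theorem exists_hyp (T : Sylow 3 G) (hT : Cfsg.IsElementaryAbelian 3 (T : Subgroup G))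
    (hcard : Nat.card T = 9) (hC : Subgroup.centralizer ((T : Subgroup G) : Set G) = T)
    [hn : ((T : Subgroup G).subgroupOf (Subgroup.normalizer ((T : Subgroup G) : Set G))).Normal]
    (hK : IsKleinFour (↥(Subgroup.normalizer ((T : Subgroup G) : Set G)) ⧸
      (T : Subgroup G).subgroupOf (Subgroup.normalizer ((T : Subgroup G) : Set G))))
    (hloc : ∀ t ∈ (T : Subgroup G), t ≠ 1 →
      Subgroup.centralizer ({t} : Set G) ≤ Subgroup.normalizer ((T : Subgroup G) : Set G)) :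
    ∃ ι : Mod →* G, Hyp ι (T : Subgroup G) := by
  classical
  haveI : Fact (Nat.Prime 3) := ⟨Nat.prime_three⟩
  haveI : Fact (Nat.Prime 2) := ⟨Nat.prime_two⟩
  set N := Subgroup.normalizer ((T : Subgroup G) : Set G) with hN
  set TN := (T : Subgroup G).subgroupOf N with hTN'
  have hTN : (T : Subgroup G) ≤ N := Subgroup.le_normalizer
  have hTcard : Nat.card TN = 9 := by
    rw [Nat.card_congr (Subgroup.subgroupOfEquivOfLe hTN).toEquiv]; exact hcard
  have hNcard : Nat.card N = 36 := by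
    rw [Subgroup.card_eq_card_quotient_mul_card_subgroup TN, hTcard]
    rw [hK.card_four]
  obtain ⟨V, hV⟩ : ∃ V : Sylow 2 N, Nat.card V = 4 := ⟨default, by
    rw [Sylow.card_eq_multiplicity, hNcard]
    have : (36 : ℕ).factorization 2 = 2 := by
      rw [Nat.factorization_def _ Nat.prime_two]
      rw [show (36 : ℕ) = 2 ^ 2 * 9 by norm_num, padicValNat.mul (by norm_num) (by norm_num),
        padicValNat.prime_pow, padicValNat.eq_zero_of_not_dvd (by norm_num)]
    rw [this]; norm_num⟩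
  set π : (V : Subgroup N) →* (↥N ⧸ TN) := (QuotientGroup.mk' TN).comp (V : Subgroup N).subtype
    with hπ
  have hπinj : Function.Injective π := by
    rw [injective_iff_map_eq_one]
    intro v hv
    have h1 : (v : N) ∈ TN := by
      simpa [hπ, QuotientGroup.eq_one_iff] using hv
    have h2 := Subgroup.orderOf_dvd_natCard TN h1
    rw [Subgroup.orderOf_coe, hTcard] at h2
    have h3 : orderOf v ∣ 4 := hV ▸ orderOf_dvd_natCard v
    exact orderOf_eq_one_iff.1 (Nat.eq_one_of_dvd_coprimes (by norm_num : Nat.Coprime 9 4) h2 h3)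
  have hπsurj : Function.Surjective π := by
    refine (Function.Injective.bijective_of_nat_card_le hπinj ?_).2
    rw [hK.card_four, show Nat.card (V : Subgroup N) = 4 from hV]
  let e : (V : Subgroup N) ≃* (↥N ⧸ TN) := MulEquiv.ofBijective π ⟨hπinj, hπsurj⟩
  haveI : IsKleinFour (↥N ⧸ TN) := hK
  obtain ⟨a₀, b₀, ha₀, hb₀, hab₀, haa, hbb, habc, hall⟩ := klein_elems (V := ↥N ⧸ TN)
  -- lift to involutions of `G`
  set W : Set G := {g | ∃ v : (V : Subgroup N), ((v : N) : G) = g} with hW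
  obtain ⟨p, q, hp1, hq1, hpq, hpp, hqq, hpqc, hp, hq, hWall⟩ : ∃ p q : G, p ≠ 1 ∧ q ≠ 1 ∧ p ≠ q ∧
      p * p = 1 ∧ q * q = 1 ∧ p * q = q * p ∧ p ∈ W ∧ q ∈ W ∧
      ∀ w ∈ W, w = 1 ∨ w = p ∨ w = q ∨ w = p * q := by
    let j : (↥N ⧸ TN) →* G := N.subtype.comp ((V : Subgroup N).subtype.comp e.symm.toMonoidHom)
    have hj : Function.Injective j :=
      N.subtype_injective.comp ((V : Subgroup N).subtype_injective.comp e.symm.injective)
    refine ⟨j a₀, j b₀, (map_ne_one_iff j hj).2 ha₀, (map_ne_one_iff j hj).2 hb₀, hj.ne hab₀,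
      by rw [← map_mul, haa, map_one], by rw [← map_mul, hbb, map_one],
      by rw [← map_mul, ← map_mul, habc], ⟨_, rfl⟩, ⟨_, rfl⟩, ?_⟩
    rintro _ ⟨v, rfl⟩
    have hv : ((v : N) : G) = j (e v) := by simp [j]
    rcases hall (e v) with h | h | h | h <;> rw [hv, h] <;> simp [map_mul]
  have hWN : ∀ w ∈ W, w ∈ N := by rintro _ ⟨v, rfl⟩; exact (v : N).2
  have hconj : ∀ w ∈ N, ∀ x ∈ (T : Subgroup G), w * x * w⁻¹ ∈ (T : Subgroup G) :=
    fun w hw x hx => (Subgroup.mem_normalizer_iff.1 hw x).1 hx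
  have hcomm : ∀ x ∈ (T : Subgroup G), ∀ y ∈ (T : Subgroup G), x * y = y * x := fun x hx y hy => by
    haveI := hT.1
    exact congrArg Subtype.val (mul_comm' (⟨x, hx⟩ : (T : Subgroup G)) ⟨y, hy⟩)
  have hexp : ∀ x ∈ (T : Subgroup G), x ^ 3 = 1 := hT.2
  have hnotT : ∀ w ∈ W, w ≠ 1 → w * w = 1 → w ∉ (T : Subgroup G) := fun w _ h1 h2 hw => h1 (by
    have h3 := hexp w hw
    rwa [pow_three, h2, mul_one] at h3)
  -- every element of order 2 of `V` moves a point of `T`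
  have moves : ∀ w ∈ W, w ≠ 1 → w * w = 1 → ∃ x ∈ (T : Subgroup G), w * x * w⁻¹ ≠ x := by
    intro w hw h1 h2
    by_contra h
    push Not at h
    refine hnotT w hw h1 h2 ?_
    rw [← hC, Subgroup.mem_centralizer_iff]
    intro x hx
    exact (mul_inv_eq_iff_eq_mul.1 (h x hx)).symm
  -- an involution with a fixed point and an inverted point
  have hinvert : ∀ w ∈ W, w * w = 1 → ∀ x ∈ (T : Subgroup G),
      w * (x * (w * x * w⁻¹)⁻¹) * w⁻¹ = (x * (w * x * w⁻¹)⁻¹)⁻¹ ∧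
      w * (x * (w * x * w⁻¹)) * w⁻¹ = x * (w * x * w⁻¹) := by
    intro w hw h2 x hx
    have hw' : w⁻¹ = w := inv_eq_of_mul_eq_one_right h2
    have e : w * (w * x * w⁻¹) * w⁻¹ = x := by
      rw [hw', show w * (w * x * w) * w = (w * w) * x * (w * w) by group, h2]; group
    constructor
    · rw [← MulAut.conj_apply w, map_mul, map_inv, MulAut.conj_apply, MulAut.conj_apply, e,
        mul_inv_rev, inv_inv]
    · rw [← MulAut.conj_apply w, map_mul, MulAut.conj_apply, MulAut.conj_apply, e]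
      exact hcomm _ (hconj w (hWN w hw) x hx) _ hx
  obtain ⟨c, d, hc, hd, hcd, hc2, hd2, hcdc, hall', x₁, hx₁, hx₁1, hfix⟩ :
      ∃ c d : G, c ∈ W ∧ d ∈ W ∧ c ≠ 1 ∧ c * c = 1 ∧ d * d = 1 ∧ c * d = d * c ∧
      (d ≠ 1 ∧ c ≠ d) ∧ ∃ x ∈ (T : Subgroup G), x ≠ 1 ∧ c * x * c⁻¹ = x := by
    have key : (∃ x ∈ (T : Subgroup G), x ≠ 1 ∧ p * x * p⁻¹ = x) ∨
        (∃ x ∈ (T : Subgroup G), x ≠ 1 ∧ q * x * q⁻¹ = x) := by
      by_contra h
      push Not at h
      have inv : ∀ w ∈ W, w * w = 1 → (∀ x ∈ (T : Subgroup G), x ≠ 1 → w * x * w⁻¹ ≠ x) →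
          ∀ x ∈ (T : Subgroup G), w * x * w⁻¹ = x⁻¹ := by
        intro w hw h2 hf x hx
        by_contra hne
        refine hf _ (Subgroup.mul_mem _ hx (hconj w (hWN w hw) x hx)) (fun e => hne ?_)
          (hinvert w hw h2 x hx).2
        exact eq_inv_of_mul_eq_one_right e
      obtain ⟨x, hx, hmv⟩ := moves (p * q) (by
        obtain ⟨vp, rfl⟩ := hp
        obtain ⟨vq, rfl⟩ := hq
        exact ⟨vp * vq, rfl⟩) (fun e => hpq (by
          rw [← mul_one p, ← hqq, ← mul_assoc, e, one_mul]))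
        (by rw [mul_assoc, ← mul_assoc q, ← hpqc, mul_assoc p q q, hqq, mul_one, hpp])
      apply hmv
      rw [show p * q * x * (p * q)⁻¹ = p * (q * x * q⁻¹) * p⁻¹ by group,
        inv q hq hqq h.2 x hx, inv p hp hpp h.1 x⁻¹ ((T : Subgroup G).inv_mem hx), inv_inv]
    rcases key with ⟨x, hx, h1, h2⟩ | ⟨x, hx, h1, h2⟩
    · exact ⟨p, q, hp, hq, hp1, hpp, hqq, hpqc, ⟨hq1, hpq⟩, x, hx, h1, h2⟩
    · exact ⟨q, p, hq, hp, hq1, hqq, hpp, hpqc.symm, ⟨hp1, hpq.symm⟩, x, hx, h1, h2⟩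
  obtain ⟨hd1, hcd1⟩ := hall'
  -- `a` inverted by `c`, `b` fixed by `c`
  obtain ⟨y, hy, hmv⟩ := moves c hc hcd hc2
  set a := y * (c * y * c⁻¹)⁻¹ with ha
  have haT : a ∈ (T : Subgroup G) :=
    Subgroup.mul_mem _ hy (Subgroup.inv_mem _ (hconj c (hWN c hc) y hy))
  have ha1 : a ≠ 1 := fun e => hmv (by rw [ha, mul_inv_eq_one] at e; exact e.symm)
  have hca : c * a * c⁻¹ = a⁻¹ := (hinvert c hc hc2 y hy).1
  set b := x₁ with hb
  have ord : ∀ x ∈ (T : Subgroup G), x ≠ 1 → orderOf x = 3 := fun x hx h1 =>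
    orderOf_eq_prime (hexp x hx) h1
  have hane : ∀ i : ℤ, b ≠ a ^ i := by
    intro i e
    have h1 : c * b * c⁻¹ = b⁻¹ := by rw [e, ← conj_zpow, hca, inv_zpow]
    rw [hfix, eq_inv_iff_mul_eq_one] at h1
    apply hx₁1
    have h3 := hexp b hx₁
    rwa [pow_three, h1, mul_one] at h3
  have hgen : ∀ x ∈ (T : Subgroup G), ∃ i j : ℤ, x = a ^ i * b ^ j := by
    let f : Fin 3 × Fin 3 → (T : Subgroup G) := fun s =>
      ⟨a ^ (s.1.val : ℤ) * b ^ (s.2.val : ℤ),
        Subgroup.mul_mem _ (Subgroup.zpow_mem _ haT _) (Subgroup.zpow_mem _ hx₁ _)⟩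
    have hinj : Function.Injective f := by
      rintro ⟨i, j⟩ ⟨i', j'⟩ h
      have h' : a ^ (i.val : ℤ) * b ^ (j.val : ℤ) = a ^ (i'.val : ℤ) * b ^ (j'.val : ℤ) :=
        congrArg Subtype.val h
      have h'' : b ^ ((j.val : ℤ) - j'.val) = a ^ ((i'.val : ℤ) - i.val) := by
        rw [zpow_sub, zpow_sub]
        have e1 : b ^ (j.val : ℤ) = (a ^ (i.val : ℤ))⁻¹ * (a ^ (i'.val : ℤ) * b ^ (j'.val : ℤ)) := by
          rw [← h', inv_mul_cancel_left]
        rw [e1]; group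
      have hb3 := ord b hx₁ hx₁1
      have ha3 := ord a haT ha1
      rcases eq_or_ne j j' with rfl | hne
      · rw [mul_left_inj] at h'
        rw [zpow_natCast, zpow_natCast] at h'
        have := pow_injOn_Iio_orderOf (x := a) (by rw [ha3]; exact i.isLt : i.val < orderOf a)
          (by rw [ha3]; exact i'.isLt : i'.val < orderOf a) h'
        rw [Fin.ext this]
      · exfalso
        have hj : ¬ (3 : ℤ) ∣ (j.val : ℤ) - j'.val := by
          intro hd'
          apply hne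
          have := j.isLt; have := j'.isLt
          exact Fin.ext (by omega)
        obtain ⟨m, hm⟩ : ∃ m : ℤ, (3 : ℤ) ∣ ((j.val : ℤ) - j'.val) * m - 1 :=
          ⟨(j.val : ℤ) - j'.val, by
            obtain ⟨k, hk | hk⟩ : ∃ k, (j.val : ℤ) - j'.val = 3 * k + 1 ∨
                (j.val : ℤ) - j'.val = 3 * k + 2 := ⟨((j.val : ℤ) - j'.val) / 3, by omega⟩
            · exact ⟨3 * k * k + 2 * k, by rw [hk]; ring⟩
            · exact ⟨3 * k * k + 4 * k + 1, by rw [hk]; ring⟩⟩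
        apply hane (((i'.val : ℤ) - i.val) * m)
        rw [zpow_mul, ← h'', ← zpow_mul]
        obtain ⟨k, hk⟩ := hm
        rw [show ((j.val : ℤ) - j'.val) * m = 3 * k + 1 by linarith, zpow_add, zpow_mul,
          show b ^ (3 : ℤ) = 1 by exact_mod_cast hexp b hx₁, one_zpow, one_mul, zpow_one]
    have hbij := hinj.bijective_of_nat_card_le (by rw [Nat.card_prod, Nat.card_fin]; exact hcard.le)
    intro x hx
    obtain ⟨s, hs⟩ := hbij.2 ⟨x, hx⟩
    exact ⟨_, _, (congrArg Subtype.val hs).symm⟩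
  -- the action of `d`
  have heigen : ∀ (s : G), s ∈ (T : Subgroup G) → c * s * c⁻¹ = s → ∃ j : ℤ, s = b ^ j := by
    intro s hs h
    obtain ⟨i, j, rfl⟩ := hgen s hs
    rw [← MulAut.conj_apply c, map_mul, map_zpow, map_zpow, MulAut.conj_apply, MulAut.conj_apply,
      hca, hfix, mul_left_inj, inv_zpow, inv_eq_iff_mul_eq_one] at h
    refine ⟨j, ?_⟩
    have h3 := hexp (a ^ i) (Subgroup.zpow_mem _ haT _)
    rw [pow_three, h, mul_one] at h3
    rw [h3, one_mul]
  have heigen' : ∀ (s : G), s ∈ (T : Subgroup G) → c * s * c⁻¹ = s⁻¹ → ∃ i : ℤ, s = a ^ i := by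
    intro s hs h
    obtain ⟨i, j, rfl⟩ := hgen s hs
    rw [← MulAut.conj_apply c, map_mul, map_zpow, map_zpow, MulAut.conj_apply, MulAut.conj_apply,
      hca, hfix, inv_zpow, mul_inv_rev, hcomm ((b ^ j)⁻¹) (Subgroup.inv_mem _
        (Subgroup.zpow_mem _ hx₁ _)) ((a ^ i)⁻¹) (Subgroup.inv_mem _ (Subgroup.zpow_mem _ haT _)),
      mul_right_inj, eq_inv_iff_mul_eq_one] at h
    refine ⟨i, ?_⟩
    have h3 := hexp (b ^ j) (Subgroup.zpow_mem _ hx₁ _)
    rw [pow_three, h, mul_one] at h3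
    rw [h3, mul_one]
  have pm : ∀ (w s : G), w * w = 1 → s ∈ (T : Subgroup G) → s ≠ 1 → w ∈ N →
      (∃ i : ℤ, w * s * w⁻¹ = s ^ i) → w * s * w⁻¹ = s ∨ w * s * w⁻¹ = s⁻¹ := by
    rintro w s - hs h1 - ⟨i, hi⟩
    have h3 : s ^ (3 : ℤ) = 1 := by exact_mod_cast hexp s hs
    obtain ⟨k, hk | hk | hk⟩ : ∃ k, i = 3 * k ∨ i = 3 * k + 1 ∨ i = 3 * k + 2 :=
      ⟨i / 3, by omega⟩ <;> subst hk
    · rw [zpow_mul, h3, one_zpow, conj_eq_one_iff] at hi
      exact absurd hi h1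
    · left; rw [hi, zpow_add, zpow_mul, h3, one_zpow, one_mul, zpow_one]
    · right
      rw [hi, zpow_add, zpow_mul, h3, one_zpow, one_mul, eq_inv_iff_mul_eq_one, ← zpow_add_one]
      exact h3
  have hdcomm : ∀ s, c * (d * s * d⁻¹) * c⁻¹ = d * (c * s * c⁻¹) * d⁻¹ := fun s => by
    rw [show c * (d * s * d⁻¹) * c⁻¹ = (c * d) * s * (c * d)⁻¹ by group, hcdc]; group
  have hda := pm d a hd2 haT ha1 (hWN d hd) (heigen' _ (hconj d (hWN d hd) a haT) (by
    rw [hdcomm, hca]; group))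
  have hdb := pm d b hd2 hx₁ hx₁1 (hWN d hd) (heigen _ (hconj d (hWN d hd) b hx₁) (by
    rw [hdcomm, hfix]))
  have hprodW : c * d ∈ W := by
    obtain ⟨vc, rfl⟩ := hc
    obtain ⟨vd, rfl⟩ := hd
    exact ⟨vc * vd, rfl⟩
  have hcdcd : c * d * (c * d) = 1 := by
    rw [mul_assoc, ← mul_assoc d, ← hcdc, mul_assoc c d d, hd2, mul_one, hc2]
  have hfaith : ∀ w ∈ W, w ≠ 1 → w * w = 1 → ¬ (w * a * w⁻¹ = a ∧ w * b * w⁻¹ = b) := by
    rintro w hw h1 h2 ⟨ea, eb⟩
    obtain ⟨x, hx, hm⟩ := moves w hw h1 h2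
    obtain ⟨i, j, rfl⟩ := hgen x hx
    apply hm
    rw [← MulAut.conj_apply, map_mul, map_zpow, map_zpow, MulAut.conj_apply, MulAut.conj_apply,
      ea, eb]
  -- the involution fixing `a` and inverting `b`
  obtain ⟨u, hu, hu1, hu2, hua, hub, hcu, huc⟩ : ∃ u ∈ W, u ≠ 1 ∧ u * u = 1 ∧ u * a * u⁻¹ = a ∧
      u * b * u⁻¹ = b⁻¹ ∧ c * u = u * c ∧ u ≠ c := by
    have hcd0 : c * d ≠ 1 := fun e => hcd1 (by rw [← mul_one c, ← hd2, ← mul_assoc, e, one_mul])
    rcases hda with hda | hda <;> rcases hdb with hdb | hdb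
    · exact absurd ⟨hda, hdb⟩ (hfaith d hd hd1 hd2)
    · exact ⟨d, hd, hd1, hd2, hda, hdb, hcdc, fun e => hcd1 e.symm⟩
    · exfalso
      refine hfaith (c * d) hprodW hcd0 hcdcd ⟨?_, ?_⟩
      · rw [show c * d * a * (c * d)⁻¹ = c * (d * a * d⁻¹) * c⁻¹ by group, hda,
          show c * a⁻¹ * c⁻¹ = (c * a * c⁻¹)⁻¹ by group, hca, inv_inv]
      · rw [show c * d * b * (c * d)⁻¹ = c * (d * b * d⁻¹) * c⁻¹ by group, hdb, hfix]
    · refine ⟨c * d, hprodW, hcd0, hcdcd, ?_, ?_, ?_, fun e => hd1 (mul_eq_left.1 e)⟩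
      · rw [show c * d * a * (c * d)⁻¹ = c * (d * a * d⁻¹) * c⁻¹ by group, hda,
          show c * a⁻¹ * c⁻¹ = (c * a * c⁻¹)⁻¹ by group, hca, inv_inv]
      · rw [show c * d * b * (c * d)⁻¹ = c * (d * b * d⁻¹) * c⁻¹ by group, hdb,
          show c * b⁻¹ * c⁻¹ = (c * b * c⁻¹)⁻¹ by group, hfix]
      · rw [mul_assoc c d c, ← hcdc]
  -- the homomorphism
  have ha3 : a ^ 3 = 1 := hexp a haT
  have hb3 : b ^ 3 = 1 := hexp b hx₁
  set φ := TwoLift.dHom 3 ha3 hc2 hca with hφ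
  set ψ := TwoLift.dHom 3 hb3 hu2 hub with hψ
  have hcom : ∀ x y, Commute (φ x) (ψ y) := by
    have hba : Commute a b := hcomm a haT b hx₁
    have hcb : Commute c b := mul_inv_eq_iff_eq_mul.1 hfix
    have hau : Commute u a := mul_inv_eq_iff_eq_mul.1 hua
    intro x y
    have hx : φ x ∈ Subgroup.closure ({a, c} : Set G) :=
      TwoLift.dHom_range ha3 hc2 hca ▸ ⟨x, rfl⟩
    have hy : ψ y ∈ Subgroup.closure ({b, u} : Set G) :=
      TwoLift.dHom_range hb3 hu2 hub ▸ ⟨y, rfl⟩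
    have h1 : Subgroup.closure ({a, c} : Set G) ≤ Subgroup.centralizer ({b, u} : Set G) := by
      rw [Subgroup.closure_le]
      rintro z (rfl | rfl) <;> rw [SetLike.mem_coe, Subgroup.mem_centralizer_iff] <;>
        rintro w (rfl | rfl)
      exacts [hba.eq.symm, hau.eq, hcb.eq.symm, hcu.symm]
    have h2 := h1 hx
    rw [← Subgroup.centralizer_closure, Subgroup.mem_centralizer_iff] at h2
    exact (h2 _ hy).symm
  set ι : Mod →* G := MonoidHom.noncommCoprod φ ψ hcom with hι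
  have hi : ∀ h : Mod, ι h = φ h.1 * ψ h.2 := fun h => MonoidHom.noncommCoprod_apply φ ψ hcom h
  have hφ1 : φ (.r 1) = a := by
    show Additive.toMul (TwoLift.pw 3 ha3 1) = a
    have := TwoLift.pw_intCast 3 ha3 1
    rwa [Int.cast_one, zpow_one] at this
  have hψ1 : ψ (.r 1) = b := by
    show Additive.toMul (TwoLift.pw 3 hb3 1) = b
    have := TwoLift.pw_intCast 3 hb3 1
    rwa [Int.cast_one, zpow_one] at this
  have hφs : φ (.sr 0) = c := by
    show c * Additive.toMul (TwoLift.pw 3 ha3 0) = c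
    simp
  have hψs : ψ (.sr 0) = u := by
    show u * Additive.toMul (TwoLift.pw 3 hb3 0) = u
    simp
  have hφ0 : φ (1 : DihedralGroup 3) = 1 := map_one φ
  have hψ0 : ψ (1 : DihedralGroup 3) = 1 := map_one ψ
  have hle : ι.range ≤ N := by
    have hφN : ∀ x, φ x ∈ N := fun x => by
      have := TwoLift.dHom_range ha3 hc2 hca
      refine (Subgroup.closure_le N).2 ?_ (this ▸ ⟨x, rfl⟩ : φ x ∈ Subgroup.closure ({a, c} : Set G))
      rintro z (rfl | rfl)
      exacts [hTN haT, hWN _ hc]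
    have hψN : ∀ x, ψ x ∈ N := fun x => by
      have := TwoLift.dHom_range hb3 hu2 hub
      refine (Subgroup.closure_le N).2 ?_ (this ▸ ⟨x, rfl⟩ : ψ x ∈ Subgroup.closure ({b, u} : Set G))
      rintro z (rfl | rfl)
      exacts [hTN hx₁, hWN _ hu]
    rintro _ ⟨h, rfl⟩
    rw [hi]
    exact N.mul_mem (hφN _) (hψN _)
  have hTrange : (T : Subgroup G) ≤ ι.range := by
    intro x hx
    obtain ⟨i, j, rfl⟩ := hgen x hx
    refine ι.range.mul_mem (ι.range.zpow_mem ⟨(.r 1, 1), ?_⟩ i) (ι.range.zpow_mem ⟨(1, .r 1), ?_⟩ j)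
    · rw [hi, hφ1, hψ0, mul_one]
    · rw [hi, hφ0, hψ1, one_mul]
  have hcrange : c ∈ ι.range := ⟨(.sr 0, 1), by rw [hi, hφs, hψ0, mul_one]⟩
  have hurange : u ∈ ι.range := ⟨(1, .sr 0), by rw [hi, hφ0, hψs, one_mul]⟩
  have hWrange : ∀ w ∈ W, w ∈ ι.range := by
    intro w hw
    have hmem : ∀ {s}, s ∈ W → s = 1 ∨ s = c ∨ s = u ∨ s = c * u := by
      intro s hs
      obtain ⟨vs, rfl⟩ := hs
      obtain ⟨vc, rfl⟩ := hc
      obtain ⟨vu, rfl⟩ := hu
      obtain ⟨a', b', -, -, -, -, -, -, hall''⟩ :=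
        klein_elems (V := ↥N ⧸ TN)
      by_contra h
      push Not at h
      obtain ⟨n1, n2, n3, n4⟩ := h
      have hinj : ∀ s t : (V : Subgroup N), ((s : N) : G) ≠ ((t : N) : G) → e s ≠ e t :=
        fun s t hne he => hne (by rw [e.injective he])
      have hlist : ({1, e vc, e vu, e (vc * vu), e vs} : Finset (↥N ⧸ TN)).card = 5 := by
        have o : ((((1 : (V : Subgroup N)) : N)) : G) = 1 := rfl
        have k1 : e 1 ≠ e vc := hinj _ _ (by rw [o]; exact hcd.symm)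
        have k2 : e 1 ≠ e vu := hinj _ _ (by rw [o]; exact hu1.symm)
        have k3 : e 1 ≠ e (vc * vu) := hinj _ _ (by
          rw [o]; intro he
          refine huc ?_
          have he' : ((vc : N) : G) * ((vu : N) : G) = 1 := he.symm
          rw [eq_inv_of_mul_eq_one_right he', inv_eq_of_mul_eq_one_right hc2])
        have k4 : e 1 ≠ e vs := hinj _ _ (by rw [o]; exact n1.symm)
        have k5 : e vc ≠ e vu := hinj _ _ huc.symm
        have k6 : e vc ≠ e (vc * vu) := hinj _ _ fun he => hu1 (mul_eq_left.1 he.symm)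
        have k7 : e vc ≠ e vs := hinj _ _ n2.symm
        have k8 : e vu ≠ e (vc * vu) := hinj _ _ fun he => hcd (mul_eq_right.1 he.symm)
        have k9 : e vu ≠ e vs := hinj _ _ n3.symm
        have k10 : e (vc * vu) ≠ e vs := hinj _ _ n4.symm
        rw [map_one] at k1 k2 k3 k4
        rw [Finset.card_insert_of_notMem (by simp [-map_mul, k1, k2, k3, k4]),
          Finset.card_insert_of_notMem (by simp [-map_mul, k5, k6, k7]),
          Finset.card_insert_of_notMem (by simp [-map_mul, k8, k9]),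
          Finset.card_pair k10]
      have hsub : ({1, e vc, e vu, e (vc * vu), e vs} : Finset (↥N ⧸ TN)) ⊆
          {1, a', b', a' * b'} := fun z _ => by simpa using hall'' z
      have := (Finset.card_le_card hsub).trans Finset.card_le_four
      omega
    rcases hmem hw with rfl | rfl | rfl | rfl
    exacts [ι.range.one_mem, hcrange, hurange, ι.range.mul_mem hcrange hurange]
  have hrange : ι.range = N := by
    refine le_antisymm hle fun x hx => ?_
    obtain ⟨v, hv⟩ := hπsurj (QuotientGroup.mk' TN ⟨x, hx⟩)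
    have h1 : (v : N)⁻¹ * ⟨x, hx⟩ ∈ TN := QuotientGroup.eq.1 hv
    have h2 : (((v : N) : G))⁻¹ * x ∈ (T : Subgroup G) := h1
    have h3 := ι.range.mul_mem (hWrange _ ⟨v, rfl⟩) (hTrange h2)
    rwa [mul_inv_cancel_left] at h3
  have hinj : Function.Injective ι := by
    haveI : Finite Mod := inferInstance
    have hsurj : Function.Surjective ι.rangeRestrict := ι.rangeRestrict_surjective
    have hb := hsurj.bijective_of_nat_card_le (by
      rw [hrange, hNcard, Nat.card_eq_fintype_card]; decide)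
    exact fun x y h => hb.1 (Subtype.ext h)
  have hmem : ∀ h : Mod, ι h ∈ (T : Subgroup G) ↔ h * h * h = 1 := by
    intro h
    refine ⟨fun hh => hinj ?_, fun hh => ?_⟩
    · rw [map_mul, map_mul, map_one, mul_assoc, ← pow_three, hexp _ hh]
    · obtain ⟨i, j, rfl⟩ := cube_gen h hh
      rw [map_mul, map_pow, map_pow, hi, hi, hφ1, hψ0, mul_one, hφ0, hψ1, one_mul]
      exact Subgroup.mul_mem _ (Subgroup.pow_mem _ haT _) (Subgroup.pow_mem _ hx₁ _)
  refine ⟨ι, ⟨⟨hinj, fun h h' hh hh' g hg => ?_⟩, hrange, hmem⟩⟩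
  have hfour : ∀ h : Mod, Dset h → (h ^ 4) * (h ^ 4) * (h ^ 4) = 1 ∧ h ^ 4 ≠ 1 := by decide +kernel
  obtain ⟨e1, e2⟩ := hfour h hh
  obtain ⟨f1, f2⟩ := hfour h' hh'
  have ht : ι (h ^ 4) ∈ (T : Subgroup G) := (hmem _).2 e1
  have ht' : ι (h' ^ 4) ∈ (T : Subgroup G) := (hmem _).2 f1
  have hgt : g * ι (h ^ 4) * g⁻¹ = ι (h' ^ 4) := by rw [map_pow, map_pow, ← hg, conj_pow]
  have hne : ι (h' ^ 4) ≠ 1 := (map_ne_one_iff ι hinj).2 f2
  rw [hrange]
  rw [hN, Subgroup.mem_normalizer_iff_map_conj_eq]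
  set C := (T : Subgroup G).map (MulAut.conj g).toMonoidHom with hCdef
  have hCcard : Nat.card C = 9 := by
    rw [hCdef, Subgroup.card_map_of_injective (MulAut.conj g).injective]; exact hcard
  have hCN : C ≤ N := by
    rintro _ ⟨z, hz, rfl⟩
    refine hloc _ ht' hne (Subgroup.mem_centralizer_singleton_iff.2 ?_)
    show g * z * g⁻¹ * ι (h' ^ 4) = ι (h' ^ 4) * (g * z * g⁻¹)
    rw [← hgt]
    calc g * z * g⁻¹ * (g * ι (h ^ 4) * g⁻¹) = g * (z * ι (h ^ 4)) * g⁻¹ := by group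
      _ = g * (ι (h ^ 4) * z) * g⁻¹ := by rw [hcomm z hz _ ht]
      _ = _ := by group
  refine Subgroup.eq_of_le_of_card_ge (fun z hz => ?_) (le_of_eq ?_)
  · obtain ⟨k, rfl⟩ : z ∈ ι.range := hrange ▸ hCN hz
    refine (hmem k).2 (hinj ?_)
    obtain ⟨w, hw, hwe⟩ := hz
    have hwe' : g * w * g⁻¹ = ι k := hwe
    rw [map_mul, map_mul, map_one, ← hwe', mul_assoc, ← pow_three, conj_pow, hexp w hw, mul_one,
      mul_inv_cancel]
  · exact hcard.trans hCcard.symm

end Cfsg.Agent.ThreeTI.Grid
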