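import Cfsg.Agent.Lib.ThreeTI.Columns

/-!
The exceptional characters for the normaliser `S₃ × S₃`: the arithmetic of their degrees and of
their values at involutions forces two linear characters.
-/

set_option autoImplicit false
set_option maxRecDepth 20000

namespace Cfsg.Agent.ThreeTI.Grid

/-- The Gram matrix of the nonprincipal columns. -/
def gram : Fin 5 → Fin 5 → ℤ :=
  ![![2, 0, 0, 0, 1], ![0, 3, 0, 1, 1], ![0, 0, 3, -1, -1], ![0, 1, -1, 2, 0], ![1, 1, -1, 0, 3]]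

/-- The six possible configurations. -/
def configs : List (List (Fin 5 → ℤ)) :=
  [[![1, 0, 1, 0, 0], ![1, 0, -1, 0, 1], ![0, 1, 0, 1, 0], ![0, 1, 0, 0, 1], ![0, 1, 0, 0, 0],
      ![0, 0, 1, -1, 0], ![0, 0, 0, 0, 1]],
    [![1, 0, 0, 0, 1], ![1, 0, 0, 0, 0], ![0, 1, 1, 0, 0], ![0, 1, -1, 1, 0], ![0, 1, 0, 0, 1],
      ![0, 0, 1, 0, -1], ![0, 0, 0, 1, 0]],
    [![1, 0, 0, 0, 1], ![1, 0, 0, 0, 0], ![0, 1, 1, 0, 0], ![0, 1, -1, 0, 1], ![0, 1, 0, 1, 0],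
      ![0, 0, 1, -1, 0], ![0, 0, 0, 0, 1]],
    [![1, 0, 0, 0, 1], ![1, 0, 0, 0, 0], ![0, 1, 1, 0, 0], ![0, 1, -1, 1, 1], ![0, 1, 0, 0, 0],
      ![0, 0, 1, 0, 0], ![0, 0, 0, 1, -1]],
    [![1, 0, 0, 0, 1], ![1, 0, 0, 0, 0], ![0, 1, 0, 1, 0], ![0, 1, 0, 0, 1], ![0, 1, 0, 0, 0],
      ![0, 0, 1, -1, 0], ![0, 0, 1, 0, -1], ![0, 0, 1, 0, 0]],
    [![1, 1, 0, 0, 1], ![1, -1, 0, 0, 0], ![0, 1, 0, 1, 0], ![0, 0, 1, -1, 0], ![0, 0, 1, 0, -1],
      ![0, 0, 1, 0, 0], ![0, 0, 0, 0, 1]]]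

theorem keyOK_five : KeyOK 5 := by decide +kernel

theorem search_gram : search 15 gram (3 ^ 5) = configs := by decide +kernel

theorem key_le : ∀ c ∈ vecs 5, key c ≤ 3 ^ 5 := by decide +kernel

/-- The value on the class of `(r, 1)`. -/
def E10 (c : Fin 5 → ℤ) : ℤ := c 0 + c 1 + 2 * c 2

/-- The value on the class of `(1, r)`. -/
def E01 (c : Fin 5 → ℤ) : ℤ := c 3 + c 4 + 2 * (c 3 + c 4 - c 0 - c 1 + c 2)

/-- The value on the class of `(r, r)`. -/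
def E11 (c : Fin 5 → ℤ) : ℤ := c 0 + c 1 - c 2

/-- The value on the class of `(r, s)`. -/
def E12 (c : Fin 5 → ℤ) : ℤ := c 0 - c 1

/-- The value on the class of `(s, r)`. -/
def E21 (c : Fin 5 → ℤ) : ℤ := c 3 - c 4

/-- The products whose weighted sums with the values at an involution vanish. -/
def prods : List ((Fin 5 → ℤ) → ℤ) :=
  [fun c => E10 c * E01 c, fun c => E10 c * E11 c, fun c => E01 c * E11 c,
    fun c => E01 c * E12 c, fun c => E10 c * E21 c]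

/-- The numerical data. -/
structure Sys (I : Type*) [Fintype I] [DecidableEq I] where
  o : I
  κ : I → Fin 5 → ℤ
  d : I → ℤ
  t : I → ℤ
  u : I → ℤ
  κ_o : κ o = ![1, 0, 0, 1, 0]
  d_o : d o = 1
  t_o : t o = 1
  u_o : u o = 1
  d_pos : ∀ i, 0 < d i
  orth : ∀ k l, ∑ i, κ i k * κ i l = κ o k * κ o l + gram k l
  van_d : ∀ k, ∑ i, κ i k * d i = 0
  van_t : ∀ k, ∑ i, κ i k * t i = 0
  van_u : ∀ k, ∑ i, κ i k * u i = 0
  cong_t : ∀ i, 3 ∣ t i - E12 (κ i)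
  cong_u : ∀ i, 3 ∣ u i - E21 (κ i)
  cong_d : ∀ i, 9 ∣ d i + 2 * E10 (κ i) + 2 * E01 (κ i) + 4 * E11 (κ i)
  eq_t : ∀ P ∈ prods, ∑ i, ((P (κ i) * t i : ℤ) : ℚ) / d i = 0
  eq_u : ∀ P ∈ prods, ∑ i, ((P (κ i) * u i : ℤ) : ℚ) / d i = 0

variable {I : Type*} [Fintype I] [DecidableEq I]

/-- One nonprincipal column, normalised to have leading entry `1`. -/
structure Col where
  c : Fin 5 → ℤ
  d : ℤ
  t : ℤ
  u : ℤ

/-- A column satisfies the local conditions. -/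
structure Col.OK (C : Col) : Prop where
  d_ne : C.d ≠ 0
  cong_t : 3 ∣ C.t - E12 C.c
  cong_u : 3 ∣ C.u - E21 C.c
  cong_d : 9 ∣ C.d + 2 * E10 C.c + 2 * E01 C.c + 4 * E11 C.c

/-- The global conditions on a list of columns. -/
structure Global (l : List Col) : Prop where
  ok : ∀ C ∈ l, C.OK
  van_d : ∀ k, (![1, 0, 0, 1, 0] : Fin 5 → ℤ) k + (l.map fun C => C.c k * C.d).sum = 0
  van_t : ∀ k, (![1, 0, 0, 1, 0] : Fin 5 → ℤ) k + (l.map fun C => C.c k * C.t).sum = 0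
  van_u : ∀ k, (![1, 0, 0, 1, 0] : Fin 5 → ℤ) k + (l.map fun C => C.c k * C.u).sum = 0
  eq_t : ∀ P ∈ prods, (P ![1, 0, 0, 1, 0] : ℚ) +
    (l.map fun C => ((P C.c * C.t : ℤ) : ℚ) / C.d).sum = 0
  eq_u : ∀ P ∈ prods, (P ![1, 0, 0, 1, 0] : ℚ) +
    (l.map fun C => ((P C.c * C.u : ℤ) : ℚ) / C.d).sum = 0

/-- What is to be found. -/
def Found (l : List Col) : Prop :=
  ∃ A ∈ l, ∃ B ∈ l, A.d = 1 ∧ B.d = 1 ∧ 3 ∣ A.t - 1 ∧ 3 ∣ A.u + 1 ∧ 3 ∣ B.t + 1 ∧ 3 ∣ B.u - 1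

theorem ratio {d x : ℤ} (hd : d ≠ 0) : ∃ ρ : ℚ, (x : ℚ) / d = ρ + 1 ∧ (x : ℚ) - d = ρ * d := by
  refine ⟨(x : ℚ) / d - 1, by ring, ?_⟩
  field_simp

theorem case_grid {a b c d e g h f : Col}
    (ea : a.c = ![1, 0, 0, 0, 1]) (eb : b.c = ![1, 0, 0, 0, 0]) (ec : c.c = ![0, 1, 0, 1, 0])
    (ed : d.c = ![0, 1, 0, 0, 1]) (ee : e.c = ![0, 1, 0, 0, 0]) (eg : g.c = ![0, 0, 1, -1, 0])
    (eh : h.c = ![0, 0, 1, 0, -1]) (ef : f.c = ![0, 0, 1, 0, 0])
    (H : Global [a, b, c, d, e, g, h, f]) : Found [a, b, c, d, e, g, h, f] := by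
  obtain ⟨ok, vd, vt, vu, et, eu⟩ := H
  simp only [List.forall_mem_cons, List.not_mem_nil, false_imp_iff, implies_true, and_true] at ok
  obtain ⟨oa, ob, oc, od, oe, og, oh, of⟩ := ok
  have d0 := vd 0; have d1 := vd 1; have d2 := vd 2; have d3 := vd 3; have d4 := vd 4
  have t0 := vt 0; have t1 := vt 1; have t2 := vt 2; have t3 := vt 3; have t4 := vt 4
  have u0 := vu 0; have u1 := vu 1; have u2 := vu 2; have u3 := vu 3; have u4 := vu 4
  simp [ea, eb, ec, ed, ee, eg, eh, ef] at d0 d1 d2 d3 d4 t0 t1 t2 t3 t4 u0 u1 u2 u3 u4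
  have ha := oa.cong_d; have hc := oc.cong_d; have hd := od.cong_d
  have hta := oa.cong_t; have htc := oc.cong_t; have htd := od.cong_t
  have hua := oa.cong_u; have huc := oc.cong_u; have hud := od.cong_u
  simp [ea, ec, ed, E10, E01, E11, E12, E21] at ha hc hd hta htc htd hua huc hud
  obtain ⟨ρa, qa, ma⟩ := ratio (x := a.t) oa.d_ne
  obtain ⟨ρb, qb, mb⟩ := ratio (x := b.t) ob.d_ne
  obtain ⟨ρe, qe, me⟩ := ratio (x := e.t) oe.d_ne
  obtain ⟨ρf, qf, mf⟩ := ratio (x := f.t) of.d_ne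
  obtain ⟨ρg, qg, mg⟩ := ratio (x := g.t) og.d_ne
  obtain ⟨ρh, qh, mh⟩ := ratio (x := h.t) oh.d_ne
  obtain ⟨ρc, qc, mc⟩ := ratio (x := c.t) oc.d_ne
  obtain ⟨ρd, qd, md⟩ := ratio (x := d.t) od.d_ne
  obtain ⟨σa, ra, na⟩ := ratio (x := a.u) oa.d_ne
  obtain ⟨σb, rb, nb⟩ := ratio (x := b.u) ob.d_ne
  obtain ⟨σc, rc, nc⟩ := ratio (x := c.u) oc.d_ne
  obtain ⟨σd, rd, nd⟩ := ratio (x := d.u) od.d_ne
  obtain ⟨σe, re, ne⟩ := ratio (x := e.u) oe.d_ne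
  obtain ⟨σf, rf, nf⟩ := ratio (x := f.u) of.d_ne
  obtain ⟨σg, rg, ng⟩ := ratio (x := g.u) og.d_ne
  obtain ⟨σh, rh, nh⟩ := ratio (x := h.u) oh.d_ne
  simp only [prods, List.forall_mem_cons, List.not_mem_nil, false_imp_iff, implies_true,
    and_true] at et eu
  obtain ⟨A1, A2, -, -, -⟩ := et
  obtain ⟨B1, -, B3, B4, -⟩ := eu
  simp [ea, eb, ec, ed, ee, eg, eh, ef, E10, E01, E11, E12, E21, mul_div_assoc, neg_div,
    qa, qb, qc, qd, qe, qf, qg, qh, ra, rb, rc, rd, re, rf, rg, rh] at A1 A2 B1 B3 B4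
  have rA : ρb + ρe = 2 * ρf := by linarith only [A1, A2]
  have rB : σg + σh = 2 * σf := by linarith only [B1, B3]
  -- the first equation at `t`: `q + r = 1 + p`
  have D0 : (b.d : ℚ) = -(1 + a.d) := by
    have : b.d = -(1 + a.d) := by omega
    exact_mod_cast this
  have D1 : (e.d : ℚ) = -(c.d + d.d) := by
    have : e.d = -(c.d + d.d) := by omega
    exact_mod_cast this
  have D2 : (f.d : ℚ) = -(1 + a.d + c.d + d.d) := by
    have : f.d = -(1 + a.d + c.d + d.d) := by omega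
    exact_mod_cast this
  have D3 : (g.d : ℚ) = 1 + c.d := by
    have : g.d = 1 + c.d := by omega
    exact_mod_cast this
  have D4 : (h.d : ℚ) = a.d + d.d := by
    have : h.d = a.d + d.d := by omega
    exact_mod_cast this
  obtain ⟨T0, T1, T2⟩ : b.t - b.d = -(a.t - a.d) ∧ e.t - e.d = -((c.t - c.d) + (d.t - d.d)) ∧
      f.t - f.d = -((a.t - a.d) + (c.t - c.d) + (d.t - d.d)) := ⟨by omega, by omega, by omega⟩
  have hA : (((a.t - a.d) * (c.d + d.d) - (c.t - c.d + (d.t - d.d)) * (1 + a.d)) *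
      (c.d + d.d - (1 + a.d)) : ℤ) = 0 := by
    have T0' : (b.t : ℚ) - b.d = -((a.t : ℚ) - a.d) := by exact_mod_cast T0
    have T1' : (e.t : ℚ) - e.d = -(((c.t : ℚ) - c.d) + ((d.t : ℚ) - d.d)) := by exact_mod_cast T1
    have T2' : (f.t : ℚ) - f.d = -(((a.t : ℚ) - a.d) + ((c.t : ℚ) - c.d) + ((d.t : ℚ) - d.d)) := by
      exact_mod_cast T2
    rw [mb, D0] at T0'
    rw [me, D1] at T1'
    rw [mf, D2] at T2'
    have : ((((a.t : ℚ) - a.d) * (c.d + d.d) - ((c.t : ℚ) - c.d + ((d.t : ℚ) - d.d)) * (1 + a.d)) *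
      ((c.d : ℚ) + d.d - (1 + a.d))) = 0 := by
      linear_combination ((1 + (a.d : ℚ)) * (c.d + d.d) * (1 + a.d + c.d + d.d)) * rA
        + ((c.d : ℚ) + d.d) * (1 + a.d + c.d + d.d) * T0'
        + (1 + (a.d : ℚ)) * (1 + a.d + c.d + d.d) * T1'
        - 2 * (1 + (a.d : ℚ)) * (c.d + d.d) * T2'
    exact_mod_cast this
  have hq : c.d + d.d = 1 + a.d := by
    rcases mul_eq_zero.1 hA with h1 | h1
    · exfalso
      obtain ⟨x, hx⟩ : ∃ x, a.t - a.d = 3 * x + 2 * 0 := ⟨(a.t - a.d) / 3, by omega⟩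
      obtain ⟨y, hy⟩ : ∃ y, c.t - c.d + (d.t - d.d) = 3 * y + 2 :=
        ⟨(c.t - c.d + (d.t - d.d)) / 3, by omega⟩
      obtain ⟨z, hz⟩ : ∃ z, 1 + a.d = 3 * z + 2 := ⟨(1 + a.d) / 3, by omega⟩
      rw [hx, hy, hz] at h1
      ring_nf at h1
      omega
    · omega
  obtain ⟨U0, U1, U2⟩ : g.u - g.d = (c.u - c.d) ∧ h.u - h.d = (a.u - a.d) + (d.u - d.d) ∧
      f.u - f.d = -((a.u - a.d) + (c.u - c.d) + (d.u - d.d)) := ⟨by omega, by omega, by omega⟩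
  have U0' : (g.u : ℚ) - g.d = (c.u : ℚ) - c.d := by exact_mod_cast U0
  have U1' : (h.u : ℚ) - h.d = ((a.u : ℚ) - a.d) + ((d.u : ℚ) - d.d) := by exact_mod_cast U1
  have U2' : (f.u : ℚ) - f.d = -(((a.u : ℚ) - a.d) + ((c.u : ℚ) - c.d) + ((d.u : ℚ) - d.d)) := by
    exact_mod_cast U2
  rw [ng, D3] at U0'
  rw [nh, D4] at U1'
  rw [nf, D2] at U2'
  have hB : (((c.u - c.d) * (a.d + d.d) - (a.u - a.d + (d.u - d.d)) * (1 + c.d)) *
      (a.d + d.d - (1 + c.d)) : ℤ) = 0 := by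
    have : ((((c.u : ℚ) - c.d) * (a.d + d.d) - ((a.u : ℚ) - a.d + ((d.u : ℚ) - d.d)) * (1 + c.d)) *
      ((a.d : ℚ) + d.d - (1 + c.d))) = 0 := by
      linear_combination ((1 + (c.d : ℚ)) * (a.d + d.d) * (1 + a.d + c.d + d.d)) * rB
        - ((a.d : ℚ) + d.d) * (1 + a.d + c.d + d.d) * U0'
        - (1 + (c.d : ℚ)) * (1 + a.d + c.d + d.d) * U1'
        - 2 * (1 + (c.d : ℚ)) * (a.d + d.d) * U2'
    exact_mod_cast this
  have hp : a.d + d.d = 1 + c.d := by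
    rcases mul_eq_zero.1 hB with h1 | h1
    · exfalso
      obtain ⟨x, hx⟩ : ∃ x, c.u - c.d = 3 * x + 2 * 0 := ⟨(c.u - c.d) / 3, by omega⟩
      obtain ⟨y, hy⟩ : ∃ y, a.u - a.d + (d.u - d.d) = 3 * y + 2 :=
        ⟨(a.u - a.d + (d.u - d.d)) / 3, by omega⟩
      obtain ⟨z, hz⟩ : ∃ z, 1 + c.d = 3 * z + 2 := ⟨(1 + c.d) / 3, by omega⟩
      rw [hx, hy, hz] at h1
      ring_nf at h1
      omega
    · omega
  have hd1 : d.d = 1 := by omega
  have hca : c.d = a.d := by omega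
  -- the fourth equation at `u`
  obtain ⟨V0, V1⟩ : b.u - b.d = -(a.u - a.d) ∧ e.u - e.d = -((c.u - c.d) + (d.u - d.d)) :=
    ⟨by omega, by omega⟩
  have V0' : (b.u : ℚ) - b.d = -((a.u : ℚ) - a.d) := by exact_mod_cast V0
  have V1' : (e.u : ℚ) - e.d = -(((c.u : ℚ) - c.d) + ((d.u : ℚ) - d.d)) := by exact_mod_cast V1
  rw [nb, D0] at V0'
  rw [ne, D1, hd1, hca] at V1'
  rw [hd1] at nd
  rw [hca] at nc
  push_cast at nd nc V1'
  have hC : ((1 - a.d) * ((a.u - a.d) - (c.u - a.d) + a.d * (d.u - 1)) : ℤ) = 0 := by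
    have : ((1 - (a.d : ℚ)) *
        (((a.u : ℚ) - a.d) - ((c.u : ℚ) - a.d) + a.d * ((d.u : ℚ) - 1))) = 0 := by
      linear_combination ((a.d : ℚ) * (1 + a.d)) * B4 + (1 + (a.d : ℚ)) * na
        - (1 + (a.d : ℚ)) * nc - (a.d : ℚ) * (1 + a.d) * nd
        - 2 * (a.d : ℚ) * V0' + 2 * (a.d : ℚ) * V1'
    exact_mod_cast this
  have hp1 : a.d = 1 := by
    rcases mul_eq_zero.1 hC with h1 | h1
    · omega
    · exfalso
      obtain ⟨x, hx⟩ : ∃ x, a.u - a.d - (c.u - a.d) = 3 * x + 1 :=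
        ⟨(a.u - a.d - (c.u - a.d)) / 3, by omega⟩
      obtain ⟨y, hy⟩ : ∃ y, d.u - 1 = 3 * y + 1 := ⟨(d.u - 1) / 3, by omega⟩
      obtain ⟨z, hz⟩ : ∃ z, a.d = 3 * z + 1 := ⟨a.d / 3, by omega⟩
      rw [hx, hy, hz] at h1
      ring_nf at h1
      omega
  refine ⟨a, by simp, c, by simp, hp1, hca.trans hp1, ?_, ?_, ?_, ?_⟩ <;> omega

theorem case_2 {a b c d e f g : Col}
    (ea : a.c = ![1, 0, 0, 0, 1])
    (eb : b.c = ![1, 0, 0, 0, 0])
    (ec : c.c = ![0, 1, 1, 0, 0])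
    (ed : d.c = ![0, 1, -1, 1, 0])
    (ee : e.c = ![0, 1, 0, 0, 1])
    (ef : f.c = ![0, 0, 1, 0, -1])
    (eg : g.c = ![0, 0, 0, 1, 0])
    (H : Global [a, b, c, d, e, f, g]) : False := by
  obtain ⟨ok, vd, -, vu, -, eu⟩ := H
  simp only [List.forall_mem_cons, List.not_mem_nil, false_imp_iff, implies_true, and_true] at ok
  obtain ⟨oa, ob, oc, od, oe, of, og⟩ := ok
  have d0 := vd 0; have d1 := vd 1; have d2 := vd 2; have d3 := vd 3; have d4 := vd 4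
  have u0 := vu 0; have u1 := vu 1; have u2 := vu 2; have u3 := vu 3; have u4 := vu 4
  simp [ea, eb, ec, ed, ee, ef, eg] at d0 d1 d2 d3 d4 u0 u1 u2 u3 u4
  have hd := od.cong_d
  have hu := od.cong_u
  simp [ed, E10, E01, E11, E21] at hd hu
  obtain ⟨ρa, qa, ma⟩ := ratio (x := a.u) oa.d_ne
  obtain ⟨ρb, qb, mb⟩ := ratio (x := b.u) ob.d_ne
  obtain ⟨ρc, qc, mc⟩ := ratio (x := c.u) oc.d_ne
  obtain ⟨ρd, qd, md⟩ := ratio (x := d.u) od.d_ne
  obtain ⟨ρe, qe, me⟩ := ratio (x := e.u) oe.d_ne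
  obtain ⟨ρf, qf, mf⟩ := ratio (x := f.u) of.d_ne
  obtain ⟨ρg, qg, mg⟩ := ratio (x := g.u) og.d_ne
  simp only [prods, List.forall_mem_cons, List.not_mem_nil, false_imp_iff, implies_true,
    and_true] at eu
  obtain ⟨A1, A2, A3, -, -⟩ := eu
  simp [ea, eb, ec, ed, ee, ef, eg, E10, E01, E11, mul_div_assoc, neg_div,
    qa, qb, qc, qd, qe, qf, qg] at A1 A2 A3
  have hr : ρb = ρd := by linarith only [A1, A2, A3]
  obtain ⟨B1, T1⟩ : b.d = -(1 + 2 * d.d) ∧ b.u - b.d = -2 * (d.u - d.d) := ⟨by omega, by omega⟩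
  have B1' : (b.d : ℚ) = -(1 + 2 * d.d) := by exact_mod_cast B1
  have T1' : (b.u : ℚ) - b.d = -2 * ((d.u : ℚ) - d.d) := by exact_mod_cast T1
  rw [mb, B1'] at T1'
  have : ((d.u - d.d : ℤ) : ℚ) = 0 := by
    push_cast
    linear_combination (1 + 2 * (d.d : ℚ)) * md - (d.d : ℚ) * T1'
      - (d.d : ℚ) * (1 + 2 * d.d) * hr
  have h0 : d.u - d.d = 0 := by exact_mod_cast this
  omega

theorem case_3 {a b c d e f g : Col}
    (ea : a.c = ![1, 0, 0, 0, 1])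
    (eb : b.c = ![1, 0, 0, 0, 0])
    (ec : c.c = ![0, 1, 1, 0, 0])
    (ed : d.c = ![0, 1, -1, 0, 1])
    (ee : e.c = ![0, 1, 0, 1, 0])
    (ef : f.c = ![0, 0, 1, -1, 0])
    (eg : g.c = ![0, 0, 0, 0, 1])
    (H : Global [a, b, c, d, e, f, g]) : False := by
  obtain ⟨ok, vd, vt, -, et, -⟩ := H
  simp only [List.forall_mem_cons, List.not_mem_nil, false_imp_iff, implies_true, and_true] at ok
  obtain ⟨oa, ob, oc, od, oe, of, og⟩ := ok
  have d0 := vd 0; have d1 := vd 1; have d2 := vd 2; have d3 := vd 3; have d4 := vd 4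
  simp [ea, eb, ec, ed, ee, ef, eg] at d0 d1 d2 d3 d4
  have := oa.d_ne; have := ob.d_ne; have := oc.d_ne; have := od.d_ne
  have := oe.d_ne; have := of.d_ne; have := og.d_ne
  omega

theorem case_4 {a b c d e f g : Col}
    (ea : a.c = ![1, 0, 0, 0, 1])
    (eb : b.c = ![1, 0, 0, 0, 0])
    (ec : c.c = ![0, 1, 1, 0, 0])
    (ed : d.c = ![0, 1, -1, 1, 1])
    (ee : e.c = ![0, 1, 0, 0, 0])
    (ef : f.c = ![0, 0, 1, 0, 0])
    (eg : g.c = ![0, 0, 0, 1, -1])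
    (H : Global [a, b, c, d, e, f, g]) : False := by
  obtain ⟨ok, vd, -, vu, -, eu⟩ := H
  simp only [List.forall_mem_cons, List.not_mem_nil, false_imp_iff, implies_true, and_true] at ok
  obtain ⟨oa, ob, oc, od, oe, of, og⟩ := ok
  have d0 := vd 0; have d1 := vd 1; have d2 := vd 2; have d3 := vd 3; have d4 := vd 4
  have u0 := vu 0; have u1 := vu 1; have u2 := vu 2; have u3 := vu 3; have u4 := vu 4
  simp [ea, eb, ec, ed, ee, ef, eg] at d0 d1 d2 d3 d4 u0 u1 u2 u3 u4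
  have hd := od.cong_d
  have hu := od.cong_u
  simp [ed, E10, E01, E11, E21] at hd hu
  obtain ⟨ρa, qa, ma⟩ := ratio (x := a.u) oa.d_ne
  obtain ⟨ρb, qb, mb⟩ := ratio (x := b.u) ob.d_ne
  obtain ⟨ρc, qc, mc⟩ := ratio (x := c.u) oc.d_ne
  obtain ⟨ρd, qd, md⟩ := ratio (x := d.u) od.d_ne
  obtain ⟨ρe, qe, me⟩ := ratio (x := e.u) oe.d_ne
  obtain ⟨ρf, qf, mf⟩ := ratio (x := f.u) of.d_ne
  obtain ⟨ρg, qg, mg⟩ := ratio (x := g.u) og.d_ne
  simp only [prods, List.forall_mem_cons, List.not_mem_nil, false_imp_iff, implies_true,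
    and_true] at eu
  obtain ⟨A1, A2, A3, -, -⟩ := eu
  simp [ea, eb, ec, ed, ee, ef, eg, E10, E01, E11, mul_div_assoc, neg_div,
    qa, qb, qc, qd, qe, qf, qg] at A1 A2 A3
  have hr : ρa = 2 * ρd := by linarith only [A1, A2, A3]
  obtain ⟨B1, T1⟩ : a.d = -(1 + 2 * d.d) ∧ a.u - a.d = -2 * (d.u - d.d) := ⟨by omega, by omega⟩
  have B1' : (a.d : ℚ) = -(1 + 2 * d.d) := by exact_mod_cast B1
  have T1' : (a.u : ℚ) - a.d = -2 * ((d.u : ℚ) - d.d) := by exact_mod_cast T1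
  rw [ma, B1'] at T1'
  have : (((d.u - d.d) * (1 + d.d) : ℤ) : ℚ) = 0 := by
    push_cast
    linear_combination (1 + 2 * (d.d : ℚ)) * md - (d.d : ℚ) / 2 * T1'
      - (d.d : ℚ) * (1 + 2 * d.d) / 2 * hr
  have h0 : (d.u - d.d) * (1 + d.d) = 0 := by exact_mod_cast this
  rcases mul_eq_zero.1 h0 with h | h
  · omega
  · exact og.d_ne (by omega)

theorem case_1 {a b c d e f g : Col}
    (ea : a.c = ![1, 0, 1, 0, 0])
    (eb : b.c = ![1, 0, -1, 0, 1])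
    (ec : c.c = ![0, 1, 0, 1, 0])
    (ed : d.c = ![0, 1, 0, 0, 1])
    (ee : e.c = ![0, 1, 0, 0, 0])
    (ef : f.c = ![0, 0, 1, -1, 0])
    (eg : g.c = ![0, 0, 0, 0, 1])
    (H : Global [a, b, c, d, e, f, g]) : False := by
  obtain ⟨ok, vd, vt, -, et, -⟩ := H
  simp only [List.forall_mem_cons, List.not_mem_nil, false_imp_iff, implies_true, and_true] at ok
  obtain ⟨oa, ob, oc, od, oe, of, og⟩ := ok
  have d0 := vd 0; have d1 := vd 1; have d2 := vd 2; have d3 := vd 3; have d4 := vd 4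
  have t0 := vt 0; have t1 := vt 1; have t2 := vt 2; have t3 := vt 3; have t4 := vt 4
  simp [ea, eb, ec, ed, ee, ef, eg] at d0 d1 d2 d3 d4 t0 t1 t2 t3 t4
  have hd := oa.cong_d
  have ht := oa.cong_t
  simp [ea, E10, E01, E11, E12] at hd ht
  obtain ⟨ρa, qa, ma⟩ := ratio (x := a.t) oa.d_ne
  obtain ⟨ρb, qb, mb⟩ := ratio (x := b.t) ob.d_ne
  obtain ⟨ρc, qc, mc⟩ := ratio (x := c.t) oc.d_ne
  obtain ⟨ρd, qd, md⟩ := ratio (x := d.t) od.d_ne
  obtain ⟨ρe, qe, me⟩ := ratio (x := e.t) oe.d_ne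
  obtain ⟨ρf, qf, mf⟩ := ratio (x := f.t) of.d_ne
  obtain ⟨ρg, qg, mg⟩ := ratio (x := g.t) og.d_ne
  simp only [prods, List.forall_mem_cons, List.not_mem_nil, false_imp_iff, implies_true,
    and_true] at et
  obtain ⟨A1, A2, A3, -, -⟩ := et
  simp [ea, eb, ec, ed, ee, ef, eg, E10, E01, E11, mul_div_assoc, neg_div,
    qa, qb, qc, qd, qe, qf, qg] at A1 A2 A3
  have hr : ρb = ρf := by linarith only [A1, A2, A3]
  obtain ⟨B0, B1, T0, T1⟩ : b.d = -(1 + a.d) ∧ f.d = -(1 + 2 * a.d) ∧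
      b.t - b.d = -(a.t - a.d) ∧ f.t - f.d = -2 * (a.t - a.d) :=
    ⟨by omega, by omega, by omega, by omega⟩
  have B0' : (b.d : ℚ) = -(1 + a.d) := by exact_mod_cast B0
  have B1' : (f.d : ℚ) = -(1 + 2 * a.d) := by exact_mod_cast B1
  have T0' : (b.t : ℚ) - b.d = -((a.t : ℚ) - a.d) := by exact_mod_cast T0
  have T1' : (f.t : ℚ) - f.d = -2 * ((a.t : ℚ) - a.d) := by exact_mod_cast T1
  rw [mb, B0'] at T0'
  rw [mf, B1'] at T1'
  have : ((a.t - a.d : ℤ) : ℚ) = 0 := by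
    push_cast
    linear_combination -(1 + 2 * (a.d : ℚ)) * T0' + (1 + (a.d : ℚ)) * T1'
      - (1 + (a.d : ℚ)) * (1 + 2 * a.d) * hr
  have h0 : a.t - a.d = 0 := by exact_mod_cast this
  omega

theorem case_6 {a b c d e f g : Col}
    (ea : a.c = ![1, 1, 0, 0, 1])
    (eb : b.c = ![1, -1, 0, 0, 0])
    (ec : c.c = ![0, 1, 0, 1, 0])
    (ed : d.c = ![0, 0, 1, -1, 0])
    (ee : e.c = ![0, 0, 1, 0, -1])
    (ef : f.c = ![0, 0, 1, 0, 0])
    (eg : g.c = ![0, 0, 0, 0, 1])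
    (H : Global [a, b, c, d, e, f, g]) : False := by
  obtain ⟨ok, vd, vt, -, et, -⟩ := H
  simp only [List.forall_mem_cons, List.not_mem_nil, false_imp_iff, implies_true, and_true] at ok
  obtain ⟨oa, ob, oc, od, oe, of, og⟩ := ok
  have d0 := vd 0; have d1 := vd 1; have d2 := vd 2; have d3 := vd 3; have d4 := vd 4
  have t0 := vt 0; have t1 := vt 1; have t2 := vt 2; have t3 := vt 3; have t4 := vt 4
  simp [ea, eb, ec, ed, ee, ef, eg] at d0 d1 d2 d3 d4 t0 t1 t2 t3 t4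
  have hd := oa.cong_d
  have ht := oa.cong_t
  simp [ea, E10, E01, E11, E12] at hd ht
  obtain ⟨ρa, qa, ma⟩ := ratio (x := a.t) oa.d_ne
  obtain ⟨ρb, qb, mb⟩ := ratio (x := b.t) ob.d_ne
  obtain ⟨ρc, qc, mc⟩ := ratio (x := c.t) oc.d_ne
  obtain ⟨ρd, qd, md⟩ := ratio (x := d.t) od.d_ne
  obtain ⟨ρe, qe, me⟩ := ratio (x := e.t) oe.d_ne
  obtain ⟨ρf, qf, mf⟩ := ratio (x := f.t) of.d_ne
  obtain ⟨ρg, qg, mg⟩ := ratio (x := g.t) og.d_ne
  simp only [prods, List.forall_mem_cons, List.not_mem_nil, false_imp_iff, implies_true,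
    and_true] at et
  obtain ⟨A1, A2, A3, -, -⟩ := et
  simp [ea, eb, ec, ed, ee, ef, eg, E10, E01, E11, mul_div_assoc, neg_div,
    qa, qb, qc, qd, qe, qf, qg] at A1 A2 A3
  have hr : ρc = 2 * ρa := by linarith only [A1, A2, A3]
  obtain ⟨B1, T1⟩ : c.d = -(1 + 2 * a.d) ∧ c.t - c.d = -2 * (a.t - a.d) := ⟨by omega, by omega⟩
  have B1' : (c.d : ℚ) = -(1 + 2 * a.d) := by exact_mod_cast B1
  have T1' : (c.t : ℚ) - c.d = -2 * ((a.t : ℚ) - a.d) := by exact_mod_cast T1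
  rw [mc, B1'] at T1'
  have : (((a.t - a.d) * (1 + a.d) : ℤ) : ℚ) = 0 := by
    push_cast
    linear_combination (1 + 2 * (a.d : ℚ)) * ma - (a.d : ℚ) / 2 * T1'
      - (a.d : ℚ) * (1 + 2 * a.d) / 2 * hr
  have h0 : (a.t - a.d) * (1 + a.d) = 0 := by exact_mod_cast this
  rcases mul_eq_zero.1 h0 with h | h
  · omega
  · exact ob.d_ne (by omega)

/-- The list of columns of a configuration gives the two linear characters. -/
theorem found_of_global {l : List Col} (hl : l.map Col.c ∈ configs) (H : Global l) : Found l := by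
  simp only [configs, List.mem_cons, List.not_mem_nil, or_false] at hl
  rcases hl with hl | hl | hl | hl | hl | hl
  · simp only [List.map_eq_cons_iff, List.map_eq_nil_iff] at hl
    obtain ⟨a, l0, rfl, ea, ⟨b, l1, rfl, eb, ⟨c, l2, rfl, ec, ⟨d, l3, rfl, ed, ⟨e, l4, rfl, ee, ⟨f, l5, rfl, ef, ⟨g, l6, rfl, eg, rfl⟩⟩⟩⟩⟩⟩⟩ := hl
    exact (case_1 ea eb ec ed ee ef eg H).elim
  · simp only [List.map_eq_cons_iff, List.map_eq_nil_iff] at hl
    obtain ⟨a, l0, rfl, ea, ⟨b, l1, rfl, eb, ⟨c, l2, rfl, ec, ⟨d, l3, rfl, ed, ⟨e, l4, rfl, ee, ⟨f, l5, rfl, ef, ⟨g, l6, rfl, eg, rfl⟩⟩⟩⟩⟩⟩⟩ := hl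
    exact (case_2 ea eb ec ed ee ef eg H).elim
  · simp only [List.map_eq_cons_iff, List.map_eq_nil_iff] at hl
    obtain ⟨a, l0, rfl, ea, ⟨b, l1, rfl, eb, ⟨c, l2, rfl, ec, ⟨d, l3, rfl, ed, ⟨e, l4, rfl, ee, ⟨f, l5, rfl, ef, ⟨g, l6, rfl, eg, rfl⟩⟩⟩⟩⟩⟩⟩ := hl
    exact (case_3 ea eb ec ed ee ef eg H).elim
  · simp only [List.map_eq_cons_iff, List.map_eq_nil_iff] at hl
    obtain ⟨a, l0, rfl, ea, ⟨b, l1, rfl, eb, ⟨c, l2, rfl, ec, ⟨d, l3, rfl, ed, ⟨e, l4, rfl, ee, ⟨f, l5, rfl, ef, ⟨g, l6, rfl, eg, rfl⟩⟩⟩⟩⟩⟩⟩ := hl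
    exact (case_4 ea eb ec ed ee ef eg H).elim
  · simp only [List.map_eq_cons_iff, List.map_eq_nil_iff] at hl
    obtain ⟨a, l0, rfl, ea, ⟨b, l1, rfl, eb, ⟨c, l2, rfl, ec, ⟨d, l3, rfl, ed, ⟨e, l4, rfl, ee, ⟨g, l5, rfl, eg, ⟨h, l6, rfl, eh, ⟨f, l7, rfl, ef, rfl⟩⟩⟩⟩⟩⟩⟩⟩ := hl
    exact case_grid ea eb ec ed ee eg eh ef H
  · simp only [List.map_eq_cons_iff, List.map_eq_nil_iff] at hl
    obtain ⟨a, l0, rfl, ea, ⟨b, l1, rfl, eb, ⟨c, l2, rfl, ec, ⟨d, l3, rfl, ed, ⟨e, l4, rfl, ee, ⟨f, l5, rfl, ef, ⟨g, l6, rfl, eg, rfl⟩⟩⟩⟩⟩⟩⟩ := hl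
    exact (case_6 ea eb ec ed ee ef eg H).elim

open scoped Classical in
/-- Two linear characters with the two sign patterns. -/
theorem exists_linear (Y : Sys I) : ∃ A B : I, Y.d A = 1 ∧ Y.d B = 1 ∧
    3 ∣ Y.t A - 1 ∧ 3 ∣ Y.u A + 1 ∧ 3 ∣ Y.t B + 1 ∧ 3 ∣ Y.u B - 1 := by
  set sg : I → ℤ := fun i => if normed (Y.κ i) then 1 else -1 with hsg
  set κ' : I → Fin 5 → ℤ := fun i k => sg i * Y.κ i k with hκ'
  set S : Finset I := Finset.univ.filter fun i => i ≠ Y.o ∧ Y.κ i ≠ 0 with hS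
  have hsq : ∀ i, sg i * sg i = 1 := fun i => by
    rw [hsg]; by_cases h : normed (Y.κ i) <;> simp [h]
  have hsum : ∀ {R : Type} [AddCommMonoid R] (F : I → R), (∀ i, Y.κ i = 0 → F i = 0) →
      ∑ i, F i = F Y.o + ∑ i ∈ S, F i := by
    intro R _ F hF
    rw [← Finset.add_sum_erase _ _ (Finset.mem_univ Y.o)]
    congr 1
    refine (Finset.sum_subset (fun i hi => ?_) fun i hi hn => hF i ?_).symm
    · exact Finset.mem_erase.2 ⟨(Finset.mem_filter.1 hi).2.1, Finset.mem_univ _⟩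
    · by_contra h
      exact hn (Finset.mem_filter.2 ⟨Finset.mem_univ _, (Finset.mem_erase.1 hi).1, h⟩)
  have hgram : ∀ k l, gram k l = ∑ i ∈ S, κ' i k * κ' i l := by
    intro k l
    have h := Y.orth k l
    rw [hsum (fun i => Y.κ i k * Y.κ i l) fun i hi => by simp [hi]] at h
    have e : ∑ i ∈ S, κ' i k * κ' i l = ∑ i ∈ S, Y.κ i k * Y.κ i l :=
      Finset.sum_congr rfl fun i _ => by
        rw [hκ', show sg i * Y.κ i k * (sg i * Y.κ i l) = sg i * sg i * (Y.κ i k * Y.κ i l) by ring,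
          hsq, one_mul]
    omega
  have hdiag : ∀ k, gram k k ≤ 3 := by decide
  have hvecs : ∀ i ∈ S, κ' i ∈ vecs 5 := by
    intro i hi
    have hent : ∀ k, Y.κ i k = 0 ∨ Y.κ i k = 1 ∨ Y.κ i k = -1 := by
      intro k
      have h1 : κ' i k * κ' i k ≤ gram k k :=
        hgram k k ▸ Finset.single_le_sum (f := fun j => κ' j k * κ' j k)
          (fun j _ => mul_self_nonneg _) hi
      have h2 : Y.κ i k * Y.κ i k ≤ 3 := by
        have e : κ' i k * κ' i k = Y.κ i k * Y.κ i k := by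
          rw [hκ', show sg i * Y.κ i k * (sg i * Y.κ i k) = sg i * sg i * (Y.κ i k * Y.κ i k) by ring,
            hsq, one_mul]
        have := hdiag k
        omega
      have h3 : -2 < Y.κ i k ∧ Y.κ i k < 2 := ⟨by nlinarith, by nlinarith⟩
      omega
    have hneg : ∀ c ∈ allVecs 5, c ≠ 0 → normed c = false → normed (fun k => (-1) * c k) = true := by
      decide +kernel
    refine List.mem_filter.2 ⟨mem_allVecs 5 _ fun k => ?_, ?_⟩
    · rw [hκ', hsg]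
      by_cases h : normed (Y.κ i) <;> rcases hent k with e | e | e <;> simp [h, e]
    · rw [hκ', hsg]
      by_cases h : normed (Y.κ i)
      · simpa [h] using h
      · have := hneg _ (mem_allVecs 5 _ hent) (Finset.mem_filter.1 hi).2.2 (by simpa using h)
        simpa [h] using this
  have hcard : S.card ≤ 15 := by
    have h1 : ∀ i ∈ S, (1 : ℤ) ≤ ∑ k, κ' i k * κ' i k := by
      intro i hi
      obtain ⟨k, hk⟩ : ∃ k, Y.κ i k ≠ 0 := by
        by_contra h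
        push Not at h
        exact (Finset.mem_filter.1 hi).2.2 (funext h)
      have : κ' i k ≠ 0 := mul_ne_zero (fun h0 => by simpa [h0] using hsq i) hk
      exact le_trans (by nlinarith [mul_self_pos.2 this])
        (Finset.single_le_sum (f := fun k => κ' i k * κ' i k) (fun _ _ => mul_self_nonneg _)
          (Finset.mem_univ k))
    have h2 := Finset.sum_le_sum h1
    rw [Finset.sum_comm, Finset.sum_const, nsmul_eq_mul, mul_one] at h2
    simp only [← hgram] at h2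
    have h3 : ∑ k, gram k k ≤ 15 := by decide
    omega
  obtain ⟨L, hL, hmap⟩ := search_sound keyOK_five κ' 15 gram (3 ^ 5) S hvecs hgram
    (fun i hi => key_le _ (hvecs i hi)) hcard
  rw [search_gram] at hL
  obtain ⟨m, hm, hmem, hmκ⟩ := exists_list S κ' L hmap
  have hSm : ∀ {R : Type} [AddCommMonoid R] (F : I → R), ∑ i ∈ S, F i = (m.map F).sum := by
    intro R _ F
    rw [← List.sum_toFinset _ hm]
    exact Finset.sum_congr (Finset.ext fun i => by rw [List.mem_toFinset, hmem]) fun _ _ => rfl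
  set col : I → Col := fun i => ⟨κ' i, sg i * Y.d i, sg i * Y.t i, sg i * Y.u i⟩ with hcol
  have hval : ∀ (y : I → ℤ) i k, κ' i k * (sg i * y i) = Y.κ i k * y i := fun y i k => by
    rw [hκ', show sg i * Y.κ i k * (sg i * y i) = sg i * sg i * (Y.κ i k * y i) by ring, hsq, one_mul]
  have hscale : ∀ (s : ℤ) (c : Fin 5 → ℤ), E10 (fun k => s * c k) = s * E10 c ∧
      E01 (fun k => s * c k) = s * E01 c ∧ E11 (fun k => s * c k) = s * E11 c ∧
      E12 (fun k => s * c k) = s * E12 c ∧ E21 (fun k => s * c k) = s * E21 c := fun s c => by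
    simp only [E10, E01, E11, E12, E21]; refine ⟨?_, ?_, ?_, ?_, ?_⟩ <;> ring
  have hP : ∀ P ∈ prods, ∀ i, P (κ' i) = P (Y.κ i) ∧ (Y.κ i = 0 → P (Y.κ i) = 0) := by
    intro P hP i
    obtain ⟨s1, s2, s3, s4, s5⟩ := hscale (sg i) (Y.κ i)
    simp only [prods, List.mem_cons, List.not_mem_nil, or_false] at hP
    have hz : Y.κ i = 0 → E10 (Y.κ i) = 0 ∧ E01 (Y.κ i) = 0 := fun h => by
      simp [h, E10, E01]
    rcases hP with rfl | rfl | rfl | rfl | rfl <;>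
      refine ⟨?_, fun h => by simp [hz h]⟩ <;>
      simp only [hκ', s1, s2, s3, s4, s5] <;>
      rw [mul_mul_mul_comm, hsq, one_mul]
  have hG : Global (m.map col) := by
    refine ⟨fun C hC => ?_, fun k => ?_, fun k => ?_, fun k => ?_, fun P hP' => ?_,
      fun P hP' => ?_⟩
    · obtain ⟨i, -, rfl⟩ := List.mem_map.1 hC
      obtain ⟨s1, s2, s3, s4, s5⟩ := hscale (sg i) (Y.κ i)
      refine ⟨mul_ne_zero (fun h0 => by simpa [h0] using hsq i) (Y.d_pos i).ne', ?_, ?_, ?_⟩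
      · show (3 : ℤ) ∣ sg i * Y.t i - E12 (κ' i)
        rw [hκ', s4, ← mul_sub]; exact dvd_mul_of_dvd_right (Y.cong_t i) _
      · show (3 : ℤ) ∣ sg i * Y.u i - E21 (κ' i)
        rw [hκ', s5, ← mul_sub]; exact dvd_mul_of_dvd_right (Y.cong_u i) _
      · show (9 : ℤ) ∣ sg i * Y.d i + 2 * E10 (κ' i) + 2 * E01 (κ' i) + 4 * E11 (κ' i)
        rw [hκ', s1, s2, s3, show sg i * Y.d i + 2 * (sg i * E10 (Y.κ i)) + 2 * (sg i * E01 (Y.κ i))
          + 4 * (sg i * E11 (Y.κ i)) =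
          sg i * (Y.d i + 2 * E10 (Y.κ i) + 2 * E01 (Y.κ i) + 4 * E11 (Y.κ i)) by ring]
        exact dvd_mul_of_dvd_right (Y.cong_d i) _
    · have h := Y.van_d k
      rw [hsum _ fun i hi => by simp [hi], hSm, Y.κ_o, Y.d_o, mul_one] at h
      refine Eq.trans ?_ h
      rw [List.map_map]
      exact congrArg (fun l => _ + List.sum l) (List.map_congr_left fun i _ => hval Y.d i k)
    · have h := Y.van_t k
      rw [hsum _ fun i hi => by simp [hi], hSm, Y.κ_o, Y.t_o, mul_one] at h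
      refine Eq.trans ?_ h
      rw [List.map_map]
      exact congrArg (fun l => _ + List.sum l) (List.map_congr_left fun i _ => hval Y.t i k)
    · have h := Y.van_u k
      rw [hsum _ fun i hi => by simp [hi], hSm, Y.κ_o, Y.u_o, mul_one] at h
      refine Eq.trans ?_ h
      rw [List.map_map]
      exact congrArg (fun l => _ + List.sum l) (List.map_congr_left fun i _ => hval Y.u i k)
    · have h := Y.eq_t P hP'
      rw [hsum _ fun i hi => by simp [(hP P hP' i).2 hi], hSm, Y.κ_o, Y.t_o, Y.d_o] at h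
      simp only [mul_one, Int.cast_one, div_one] at h
      refine Eq.trans ?_ h
      rw [List.map_map]
      refine congrArg (fun l => _ + List.sum l) (List.map_congr_left fun i _ => ?_)
      show ((P (κ' i) * (sg i * Y.t i) : ℤ) : ℚ) / ((sg i * Y.d i : ℤ) : ℚ) = _
      have hne : sg i ≠ 0 := fun h0 => by simpa [h0] using hsq i
      have : (sg i : ℚ) ≠ 0 := by exact_mod_cast hne
      rw [(hP P hP' i).1]
      push_cast
      rw [mul_left_comm, mul_div_mul_left _ _ this]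
    · have h := Y.eq_u P hP'
      rw [hsum _ fun i hi => by simp [(hP P hP' i).2 hi], hSm, Y.κ_o, Y.u_o, Y.d_o] at h
      simp only [mul_one, Int.cast_one, div_one] at h
      refine Eq.trans ?_ h
      rw [List.map_map]
      refine congrArg (fun l => _ + List.sum l) (List.map_congr_left fun i _ => ?_)
      show ((P (κ' i) * (sg i * Y.u i) : ℤ) : ℚ) / ((sg i * Y.d i : ℤ) : ℚ) = _
      have hne : sg i ≠ 0 := fun h0 => by simpa [h0] using hsq i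
      have : (sg i : ℚ) ≠ 0 := by exact_mod_cast hne
      rw [(hP P hP' i).1]
      push_cast
      rw [mul_left_comm, mul_div_mul_left _ _ this]
  have hLc : (m.map col).map Col.c = L := by rw [List.map_map]; exact hmκ
  obtain ⟨A, hA, B, hB, hdA, hdB, h1, h2, h3, h4⟩ := found_of_global (hLc ▸ hL) hG
  obtain ⟨i, -, rfl⟩ := List.mem_map.1 hA
  obtain ⟨j, -, rfl⟩ := List.mem_map.1 hB
  have key : ∀ k : I, (col k).d = 1 → sg k = 1 ∧ Y.d k = 1 := by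
    intro k hk
    have hk' : sg k * Y.d k = 1 := hk
    have := Y.d_pos k
    rcases Int.eq_one_or_neg_one_of_mul_eq_one hk' with e | e <;> rw [e] at hk' <;>
      constructor <;> omega
  obtain ⟨si, di⟩ := key i hdA
  obtain ⟨sj, dj⟩ := key j hdB
  simp only [hcol, si, sj, one_mul] at h1 h2 h3 h4
  exact ⟨i, j, di, dj, h1, h2, h3, h4⟩

end Cfsg.Agent.ThreeTI.Grid
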