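import Cfsg.Agent.Lib.ThreeTI.Grid.Model
import Cfsg.Agent.Lib.ThreeTI.Grid.Algebra
import Cfsg.Agent.Lib.ThreeTI.Triangles
import Cfsg.Agent.Lib.Char.Degree
import Cfsg.Agent.Lib.Solvable.Coprime
import Cfsg.Agent.Lib.TwoGroups.Lifts
import Cfsg.Prelude.Def_Transfer
import Mathlib.GroupTheory.Transfer

/-!
A Sylow 3-subgroup of order 9 with normaliser `S₃ × S₃` and controlled centralisers is normal.
-/

set_option autoImplicit false
set_option maxRecDepth 20000
set_option linter.style.haveILetI false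
set_option linter.unusedSectionVars false

namespace Cfsg.Agent.ThreeTI.Grid

open Cfsg Cfsg.Agent.Char Cfsg.Agent.LocalTI
open scoped ComplexConjugate

universe u

theorem dset_of_cube : ∀ h : Mod, h * h * h = 1 → h ≠ 1 → Dset h := by decide +kernel

theorem cube_iff : ∀ h : Mod, h * h * h = 1 ↔ c3 h.1 ≠ 2 ∧ c3 h.2 ≠ 2 := by decide +kernel

theorem card_cube : (Finset.univ.filter fun h : Mod => h * h * h = 1).card = 9 := by decide +kernel

theorem good_s : Good ![0, 3, 0] := ⟨![1, 1, -1], by decide⟩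

theorem good_th (k : Fin 3) : Good (th k) := ⟨fun l => if l = k then 1 else 0, by revert k; decide⟩

theorem good_plus : Good ![2, 2, 0] := ⟨![1, 1, 0], by decide⟩

theorem good_minus : Good ![0, 0, 2] := ⟨![1, -1, 0], by decide⟩

theorem dset_rep : ∀ i : Fin 3 × Fin 3, ¬ Dset (rep i) → i.1 ≠ 1 ∧ i.2 ≠ 1 := by decide +kernel

theorem van_u (k : Fin 3) : Vanish Dset (fn ![0, 3, 0] (th k)) :=
  fn_vanish good_s (good_th k) fun i hi => by
    have h : ∀ j : Fin 3, j ≠ 1 → (![0, 3, 0] : Fin 3 → ℤ) j = 0 := by decide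
    rw [h _ (dset_rep i hi).1, zero_mul]

theorem van_w (k : Fin 3) : Vanish Dset (fn (th k) ![0, 3, 0]) :=
  fn_vanish (good_th k) good_s fun i hi => by
    have h : ∀ j : Fin 3, j ≠ 1 → (![0, 3, 0] : Fin 3 → ℤ) j = 0 := by decide
    rw [h _ (dset_rep i hi).2, mul_zero]

/-- The five generating virtual characters. -/
def vec : Fin 5 → Mod → ℤ :=
  ![fn ![0, 3, 0] (th 0), fn ![0, 3, 0] (th 1), fn ![0, 3, 0] (th 2), fn (th 0) ![0, 3, 0],
    fn (th 1) ![0, 3, 0]]

theorem vec_vanish (k : Fin 5) : Vanish Dset (vec k) := by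
  fin_cases k
  exacts [van_u 0, van_u 1, van_u 2, van_w 0, van_w 1]

theorem sum_vec : ∀ k, ∑ h, vec k h = 36 * (![1, 0, 0, 1, 0] : Fin 5 → ℤ) k := by decide +kernel

theorem sum_vec_mul : ∀ k l, ∑ h, vec k h * vec l h =
    36 * ((![1, 0, 0, 1, 0] : Fin 5 → ℤ) k * (![1, 0, 0, 1, 0] : Fin 5 → ℤ) l + gram k l) := by
  decide +kernel

variable {G : Type u} [Group G]

/-- The local hypotheses. -/
structure Hyp (ι : Mod →* G) (T : Subgroup G) : Prop where
  emb : Emb ι Dset
  norm : ι.range = Subgroup.normalizer (T : Set G)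
  mem : ∀ h, ι h ∈ T ↔ h * h * h = 1

variable [Finite G] {ι : Mod →* G}

/-- The two classes of order 3 have no conjugates whose product is an involution. -/
theorem no_invol (E : Emb ι Dset) {h₁ h₂ : Mod} (hd : Dset h₁⁻¹) (hd' : Dset h₂)
    (e₁ : h₁ * h₁ * h₁ = 1) (e₂ : h₂ * h₂ * h₂ = 1) (hne : ¬ IsConj h₁⁻¹ h₂) {y : G}
    (hy : y * y = 1) (a : G) (ha : IsConj (ι h₁) a) : ¬ IsConj (ι h₂) (a⁻¹ * y) := by
  intro hb
  have cube : ∀ {h : Mod} {b : G}, h * h * h = 1 → IsConj (ι h) b → b ^ 3 = 1 := by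
    intro h b e hb
    obtain ⟨c, rfl⟩ := isConj_iff.1 hb
    rw [conj_pow, ← map_pow, pow_three', e, map_one, mul_one, mul_inv_cancel]
  have h3 := isConj_of_prod_invol (cube e₁ ha) (cube e₂ hb)
    (by rw [mul_inv_cancel_left, pow_two, hy])
  obtain ⟨c, hc⟩ := isConj_iff.1 ha
  have h4 : IsConj (ι h₁⁻¹) a⁻¹ := isConj_iff.2 ⟨c, by rw [map_inv, ← hc]; group⟩
  exact hne (E.isConj hd hd' ((h4.trans h3).trans hb.symm))

/-- Relations coming from the triangle group `(2, 3, 6)`. -/
theorem no_six (E : Emb ι Dset) {h₁ x : Mod} (hd : Dset h₁) (e₁ : h₁ * h₁ * h₁ = 1)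
    (hx : x ^ 6 = 1) (hd2 : Dset (x ^ 2)⁻¹) (hd3 : Dset (x ^ 2)) (hne : ¬ IsConj h₁ (x ^ 2)⁻¹)
    (hno : ∀ k : Mod, ((k * h₁ * k⁻¹)⁻¹ * x) ^ 2 ≠ 1) {y : G} (hy : y * y = 1) (a : G)
    (ha : IsConj (ι h₁) a) : ¬ IsConj y (a⁻¹ * ι x) := by
  intro hb
  have ha3 : a ^ 3 = 1 := by
    obtain ⟨c, rfl⟩ := isConj_iff.1 ha
    rw [conj_pow, ← map_pow, pow_three', e₁, map_one, mul_one, mul_inv_cancel]
  have hs : (a⁻¹ * ι x) ^ 2 = 1 := by
    obtain ⟨c, hc⟩ := isConj_iff.1 hb
    rw [← hc, conj_pow, pow_two, hy, mul_one, mul_inv_cancel]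
  rcases isConj_or_commute ha3 (by rw [← map_pow, hx, map_one]) hs with hc | ⟨q, q1, q3, qx, qa⟩
  · refine hne (E.isConj hd hd2 ?_)
    rw [map_inv, map_pow]
    exact ha.trans hc
  · rw [← map_pow] at qx
    obtain ⟨r, rfl⟩ := E.mem_range_of_commute hd3 qx.eq
    have hr : Dset r := dset_of_cube r (E.inj (by rw [← pow_three', map_pow, q3, map_one]))
      fun h => q1 (by rw [h, map_one])
    obtain ⟨s, rfl⟩ := E.mem_range_of_commute hr qa.eq.symm
    have hsd : Dset s := by
      refine dset_of_cube s (E.inj (by rw [← pow_three', map_pow, ha3, map_one])) fun h => ?_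
      rw [h, map_one, isConj_one_left] at ha
      exact absurd (E.inj (ha.trans (map_one ι).symm)) (fun h1 => by simp [h1, Dset] at hd)
    obtain ⟨k, hk⟩ := isConj_iff.1 (E.isConj hd hsd ha)
    refine hno k (E.inj ?_)
    rw [hk, map_pow, map_mul, map_inv, hs, map_one]

section System

variable [Fintype G] (E : Emb ι Dset)

/-- The coordinates of a character. -/
noncomputable def col (_E : Emb ι Dset) (χ : IrrCharacter G) (k : Fin 5) : ℤ :=
  coef (vec_vanish k) ι χ

/-- The degree. -/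
noncomputable def deg (χ : IrrCharacter G) : ℤ := (Cfsg.charDegree (χ : G → ℂ) : ℤ)

/-- The value at the involution `(1, s)`. -/
noncomputable def valT (χ : IrrCharacter G) : ℤ :=
  3 * coef (fn_true good_plus good_minus) ι χ - 2 * E12 (col E χ)

/-- The value at the involution `(s, 1)`. -/
noncomputable def valU (χ : IrrCharacter G) : ℤ :=
  3 * coef (fn_true good_minus good_plus) ι χ - 2 * E21 (col E χ)

/-- The values of a character on the nine classes are given by its coordinates. -/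
theorem values (χ : IrrCharacter G) :
    value ι χ 1 0 = E10 (col E χ) ∧ value ι χ 0 1 = E01 (col E χ) ∧
    value ι χ 1 1 = E11 (col E χ) ∧ value ι χ 1 2 = E12 (col E χ) ∧
    value ι χ 2 1 = E21 (col E χ) ∧ value ι χ 0 2 = valT E χ ∧ value ι χ 2 0 = valU E χ := by
  have u0 := coef_fn (van_u 0) ι χ
  have u1 := coef_fn (van_u 1) ι χ
  have u2 := coef_fn (van_u 2) ι χ
  have w0 := coef_fn (van_w 0) ι χ
  have w1 := coef_fn (van_w 1) ι χ
  have t := coef_fn (fn_true good_plus good_minus) ι χ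
  have u := coef_fn (fn_true good_minus good_plus) ι χ
  have c0 : col E χ 0 = coef (van_u 0) ι χ := rfl
  have c1 : col E χ 1 = coef (van_u 1) ι χ := rfl
  have c2 : col E χ 2 = coef (van_u 2) ι χ := rfl
  have c3 : col E χ 3 = coef (van_w 0) ι χ := rfl
  have c4 : col E χ 4 = coef (van_w 1) ι χ := rfl
  simp only [valT, valU, E10, E01, E11, E12, E21, c0, c1, c2, c3, c4]
  generalize coef (van_u 0) ι χ = n0, coef (van_u 1) ι χ = n1, coef (van_u 2) ι χ = n2,
    coef (van_w 0) ι χ = n3, coef (van_w 1) ι χ = n4 at *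
  generalize coef (fn_true good_plus good_minus) ι χ = n5,
    coef (fn_true good_minus good_plus) ι χ = n6 at *
  simp [Fin.sum_univ_three, th, size3] at u0 u1 u2 w0 w1 t u
  push_cast
  refine ⟨?_, ?_, ?_, ?_, ?_, ?_, ?_⟩ <;> grind

theorem value_degree (χ : IrrCharacter G) : value ι χ 0 0 = (deg χ : ℂ) := by
  have h : ι (rep (0, 0)) = 1 := by
    rw [show rep (0, 0) = 1 from rfl, map_one]
  simp only [value, h, deg]
  exact_mod_cast CharX.irr_deg χ

theorem cong_deg (χ : IrrCharacter G) :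
    (9 : ℤ) ∣ deg χ + 2 * E10 (col E χ) + 2 * E01 (col E χ) + 4 * E11 (col E χ) := by
  have h := coef_fn (fn_true good_plus good_plus) ι χ
  obtain ⟨v10, v01, v11, -⟩ := values E χ
  refine ⟨coef (fn_true good_plus good_plus) ι χ, ?_⟩
  generalize coef (fn_true good_plus good_plus) ι χ = n at *
  simp [Fin.sum_univ_three, size3, v10, v01, v11, value_degree χ] at h
  have : ((deg χ + 2 * E10 (col E χ) + 2 * E01 (col E χ) + 4 * E11 (col E χ) : ℤ) : ℂ) =
      ((9 * n : ℤ) : ℂ) := by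
    push_cast; grind
  exact_mod_cast this

/-- The weighted sum that vanishes, over the rationals. -/
theorem rat_eq {y : G} (P : IrrCharacter G → ℤ) (x : IrrCharacter G → ℤ)
    (h : ∑ χ : IrrCharacter G, (P χ : ℂ) * (x χ : ℂ) / (χ : G → ℂ) 1 = 0) :
    ∑ χ : IrrCharacter G, ((P χ * x χ : ℤ) : ℚ) / deg χ = 0 := by
  have e : ((∑ χ : IrrCharacter G, ((P χ * x χ : ℤ) : ℚ) / deg χ : ℚ) : ℂ) = ((0 : ℚ) : ℂ) := by
    rw [Rat.cast_zero, ← h]
    push_cast
    refine Finset.sum_congr rfl fun χ _ => ?_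
    rw [CharX.irr_deg χ]
    simp [deg]
  exact Rat.cast_injective e

theorem conj_invol (χ : IrrCharacter G) {y : G} (hy : y * y = 1) :
    conj ((χ : G → ℂ) y) = (χ : G → ℂ) y := by
  rw [← IsCharacter.inv (IsIrrCharacter.isCharacter χ.2) y, inv_eq_of_mul_eq_one_right hy]

theorem eqs {y : G} (hy : y * y = 1) (x : IrrCharacter G → ℤ)
    (hx : ∀ χ : IrrCharacter G, (χ : G → ℂ) y = x χ) :
    ∀ P ∈ prods, ∑ χ : IrrCharacter G, ((P (col E χ) * x χ : ℤ) : ℚ) / deg χ = 0 := by
  intro P hP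
  refine rat_eq (y := y) _ x ?_
  have pair : ∀ (h₁ h₂ : Mod), Dset h₁⁻¹ → Dset h₂ → h₁ * h₁ * h₁ = 1 → h₂ * h₂ * h₂ = 1 →
      ¬ IsConj h₁⁻¹ h₂ → ∑ χ : IrrCharacter G,
        (χ : G → ℂ) (ι h₁) * (χ : G → ℂ) (ι h₂) * (x χ : ℂ) / (χ : G → ℂ) 1 = 0 := by
    intro h₁ h₂ a b c d e
    rw [← count_zero (ι h₁) (ι h₂) y (no_invol E a b c d e hy)]
    exact Finset.sum_congr rfl fun χ _ => by rw [conj_invol χ hy, hx]
  have six : ∀ (h₁ z : Mod), Dset h₁ → h₁ * h₁ * h₁ = 1 → z ^ 6 = 1 → Dset (z ^ 2)⁻¹ →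
      Dset (z ^ 2) → ¬ IsConj h₁ (z ^ 2)⁻¹ → (∀ k : Mod, ((k * h₁ * k⁻¹)⁻¹ * z) ^ 2 ≠ 1) →
      (∀ χ : IrrCharacter G, conj ((χ : G → ℂ) (ι z)) = (χ : G → ℂ) (ι z)) →
      ∑ χ : IrrCharacter G,
        (χ : G → ℂ) (ι h₁) * (χ : G → ℂ) (ι z) * (x χ : ℂ) / (χ : G → ℂ) 1 = 0 := by
    intro h₁ z a b c d e f g hz
    rw [← count_zero (ι h₁) y (ι z) (no_six E a b c d e f g hy)]
    exact Finset.sum_congr rfl fun χ _ => by rw [hz, hx]; ring
  have hreal : ∀ (z : Mod) (χ : IrrCharacter G), conj ((χ : G → ℂ) (ι z)) = (χ : G → ℂ) (ι z) :=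
    fun z χ => by
      obtain ⟨k, hk⟩ := real_class z
      exact conj_value ι χ (isConj_iff.2 ⟨k, hk⟩)
  simp only [prods, List.mem_cons, List.not_mem_nil, or_false] at hP
  rcases hP with rfl | rfl | rfl | rfl | rfl
  · rw [← pair (rep (1, 0)) (rep (0, 1)) (by decide +kernel) (by decide +kernel)
      (by decide +kernel) (by decide +kernel) (by rw [isConj_iff]; decide +kernel)]
    refine Finset.sum_congr rfl fun χ _ => ?_
    rw [show (χ : G → ℂ) (ι (rep (1, 0))) = _ from (values E χ).1,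
      show (χ : G → ℂ) (ι (rep (0, 1))) = _ from (values E χ).2.1]
    push_cast; ring
  · rw [← pair (rep (1, 0)) (rep (1, 1)) (by decide +kernel) (by decide +kernel)
      (by decide +kernel) (by decide +kernel) (by rw [isConj_iff]; decide +kernel)]
    refine Finset.sum_congr rfl fun χ _ => ?_
    rw [show (χ : G → ℂ) (ι (rep (1, 0))) = _ from (values E χ).1,
      show (χ : G → ℂ) (ι (rep (1, 1))) = _ from (values E χ).2.2.1]
    push_cast; ring
  · rw [← pair (rep (0, 1)) (rep (1, 1)) (by decide +kernel) (by decide +kernel)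
      (by decide +kernel) (by decide +kernel) (by rw [isConj_iff]; decide +kernel)]
    refine Finset.sum_congr rfl fun χ _ => ?_
    rw [show (χ : G → ℂ) (ι (rep (0, 1))) = _ from (values E χ).2.1,
      show (χ : G → ℂ) (ι (rep (1, 1))) = _ from (values E χ).2.2.1]
    push_cast; ring
  · rw [← six (rep (0, 1)) (rep (1, 2)) (by decide +kernel) (by decide +kernel)
      (by decide +kernel) (by decide +kernel) (by decide +kernel)
      (by rw [isConj_iff]; decide +kernel) (by decide +kernel) (hreal _)]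
    refine Finset.sum_congr rfl fun χ _ => ?_
    rw [show (χ : G → ℂ) (ι (rep (0, 1))) = _ from (values E χ).2.1,
      show (χ : G → ℂ) (ι (rep (1, 2))) = _ from (values E χ).2.2.2.1]
    push_cast; ring
  · rw [← six (rep (1, 0)) (rep (2, 1)) (by decide +kernel) (by decide +kernel)
      (by decide +kernel) (by decide +kernel) (by decide +kernel)
      (by rw [isConj_iff]; decide +kernel) (by decide +kernel) (hreal _)]
    refine Finset.sum_congr rfl fun χ _ => ?_
    rw [show (χ : G → ℂ) (ι (rep (1, 0))) = _ from (values E χ).1,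
      show (χ : G → ℂ) (ι (rep (2, 1))) = _ from (values E χ).2.2.2.2.1]
    push_cast; ring

theorem vanish_at {y : G} (hy : y * y = 1) (x : IrrCharacter G → ℤ)
    (hx : ∀ χ : IrrCharacter G, (χ : G → ℂ) y = x χ) (k : Fin 5) :
    ∑ χ, col E χ k * x χ = 0 := by
  have h := vanish (vec_vanish k) (ι := ι) (y := y) fun h hD hc => hD (E.inj ?_)
  · simp only [hx] at h
    exact_mod_cast h
  · obtain ⟨c, hc'⟩ := isConj_iff.1 hc
    rw [map_mul, map_one, ← hc', show c * y * c⁻¹ * (c * y * c⁻¹) = c * (y * y) * c⁻¹ by group, hy,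
      mul_one, mul_inv_cancel]

theorem invol_t : rep (0, 2) * rep (0, 2) = 1 := by decide +kernel

theorem invol_u : rep (2, 0) * rep (2, 0) = 1 := by decide +kernel

/-- The principal character. -/
noncomputable def princ (G : Type u) [Group G] : IrrCharacter G :=
  ⟨fun _ => 1, isIrrCharacter_one⟩

open scoped Classical in
/-- The numerical system. -/
noncomputable def system : Sys (IrrCharacter G) where
  o := princ G
  κ := col E
  d := deg
  t := valT E
  u := valU E
  κ_o := funext fun k => by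
    have h := coef_one (vec_vanish k) ι (χ := princ G) fun _ => rfl
    rw [show Fintype.card Mod = 36 by decide +kernel, sum_vec] at h
    have : col E (princ G) k * 36 = 36 * (![1, 0, 0, 1, 0] : Fin 5 → ℤ) k := h
    omega
  d_o := by
    have h : ((deg (princ G) : ℤ) : ℂ) = ((1 : ℤ) : ℂ) := by
      rw [← value_degree (ι := ι)]; simp [value, princ]
    exact_mod_cast h
  t_o := by
    have h : ((valT E (princ G) : ℤ) : ℂ) = ((1 : ℤ) : ℂ) := by
      rw [← (values E (princ G)).2.2.2.2.2.1]; simp [value, princ]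
    exact_mod_cast h
  u_o := by
    have h : ((valU E (princ G) : ℤ) : ℂ) = ((1 : ℤ) : ℂ) := by
      rw [← (values E (princ G)).2.2.2.2.2.2]; simp [value, princ]
    exact_mod_cast h
  d_pos := fun χ => Int.natCast_pos.2 (CharX.irr_deg_pos χ)
  orth := fun k l => by
    have h := orth E (vec_vanish k) (vec_vanish l)
    rw [show Fintype.card Mod = 36 by decide +kernel, sum_vec_mul] at h
    have e : ∀ j, col E (princ G) j = (![1, 0, 0, 1, 0] : Fin 5 → ℤ) j := fun j => by
      have h := coef_one (vec_vanish j) ι (χ := princ G) fun _ => rfl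
      rw [show Fintype.card Mod = 36 by decide +kernel, sum_vec] at h
      have : col E (princ G) j * 36 = 36 * (![1, 0, 0, 1, 0] : Fin 5 → ℤ) j := h
      omega
    rw [e, e]
    change (∑ χ, col E χ k * col E χ l) * (36 : ℤ) = _ at h
    linarith
  van_d := fun k => vanish_at E (one_mul 1) deg (fun χ => by
    rw [← value_degree (ι := ι) χ]; simp [value, show rep (0, 0) = 1 from rfl]) k
  van_t := fun k => vanish_at E (y := ι (rep (0, 2))) (by rw [← map_mul, invol_t, map_one]) _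
    (fun χ => (values E χ).2.2.2.2.2.1) k
  van_u := fun k => vanish_at E (y := ι (rep (2, 0))) (by rw [← map_mul, invol_u, map_one]) _
    (fun χ => (values E χ).2.2.2.2.2.2) k
  cong_t := fun χ => ⟨coef (fn_true good_plus good_minus) ι χ - E12 (col E χ), by
    simp only [valT]; ring⟩
  cong_u := fun χ => ⟨coef (fn_true good_minus good_plus) ι χ - E21 (col E χ), by
    simp only [valU]; ring⟩
  cong_d := cong_deg E
  eq_t := eqs E (y := ι (rep (0, 2))) (by rw [← map_mul, invol_t, map_one]) _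
    (fun χ => (values E χ).2.2.2.2.2.1)
  eq_u := eqs E (y := ι (rep (2, 0))) (by rw [← map_mul, invol_u, map_one]) _
    (fun χ => (values E χ).2.2.2.2.2.2)

end System

theorem cube_of_cube_hom {z : ℤ} {w : ℂ} (hz : (z : ℂ) = w) (h : w ^ 3 = 1) : z = 1 := by
  have h1 : ((z ^ 3 : ℤ) : ℂ) = ((1 : ℤ) : ℂ) := by push_cast; rw [hz, h]
  have h2 : z ^ 3 = 1 := by exact_mod_cast h1
  have h3 : z ≠ 0 := fun e => by simp [e] at h2
  have h5 : z * (z * z) = 1 := by rw [← h2]; ring
  rcases Int.eq_one_or_neg_one_of_mul_eq_one h5 with e | e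
  · exact e
  · rw [e] at h2; norm_num at h2

theorem sign_of_sq_hom {z : ℤ} {w : ℂ} (hz : (z : ℂ) = w) (h : w ^ 2 = 1) : z = 1 ∨ z = -1 := by
  have h1 : ((z ^ 2 : ℤ) : ℂ) = ((1 : ℤ) : ℂ) := by push_cast; rw [hz, h]
  have h2 : z ^ 2 = 1 := by exact_mod_cast h1
  rw [pow_two] at h2
  exact Int.eq_one_or_neg_one_of_mul_eq_one h2

/-- A homomorphism with the sign pattern of one factor. -/
theorem hom_value [Fintype G] (E : Emb ι Dset) (χ : IrrCharacter G) (hd : deg χ = 1) :
    ∃ f : G →* ℂˣ, (∀ h : Mod, h * h * h = 1 → f (ι h) = 1) ∧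
      ((f (ι (rep (0, 2))) : ℂ) = (valT E χ : ℂ)) ∧ ((f (ι (rep (2, 0))) : ℂ) = (valU E χ : ℂ)) ∧
      (valT E χ = 1 ∨ valT E χ = -1) ∧ (valU E χ = 1 ∨ valU E χ = -1) := by
  have h1 : (χ : G → ℂ) 1 = 1 := by
    rw [CharX.irr_deg χ, show Cfsg.charDegree (χ : G → ℂ) = 1 by simp only [deg] at hd; omega,
      Nat.cast_one]
  obtain ⟨f, hf⟩ := exists_hom_of_degree_one (IsIrrCharacter.isCharacter χ.2) h1
  obtain ⟨v10, v01, -, -, -, vT, vU⟩ := values E χ
  simp only [value, hf] at v10 v01 vT vU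
  have hcube : ∀ h : Mod, h * h * h = 1 → (f (ι h) : ℂ) ^ 3 = 1 := fun h e => by
    rw [← Units.val_pow_eq_pow_val, ← map_pow, ← map_pow, pow_three', e, map_one, map_one,
      Units.val_one]
  have hsq : ∀ h : Mod, h * h = 1 → (f (ι h) : ℂ) ^ 2 = 1 := fun h e => by
    rw [← Units.val_pow_eq_pow_val, ← map_pow, ← map_pow, pow_two, e, map_one, map_one,
      Units.val_one]
  have g10 : f (ι (rep (1, 0))) = 1 := Units.val_injective (by
    rw [v10, cube_of_cube_hom v10.symm (hcube _ (by decide +kernel)), Int.cast_one, Units.val_one])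
  have g01 : f (ι (rep (0, 1))) = 1 := Units.val_injective (by
    rw [v01, cube_of_cube_hom v01.symm (hcube _ (by decide +kernel)), Int.cast_one, Units.val_one])
  refine ⟨f, fun h hh => ?_, vT, vU, sign_of_sq_hom vT.symm (hsq _ invol_t),
    sign_of_sq_hom vU.symm (hsq _ invol_u)⟩
  have hgen : ∀ h : Mod, h * h * h = 1 →
      ∃ i j : Fin 3, h = rep (1, 0) ^ i.val * rep (0, 1) ^ j.val := by decide +kernel
  obtain ⟨i, j, rfl⟩ := hgen h hh
  rw [map_mul, map_mul, map_pow, map_pow, map_pow, map_pow, g10, g01, one_pow, one_pow, one_mul]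

/-- The conclusion: the Sylow 3-subgroup is normal. -/
theorem normal (T : Sylow 3 G) (hab : IsMulCommutative (T : Subgroup G)) (hcard : Nat.card T = 9)
    (hexp : ∀ x ∈ (T : Subgroup G), x ^ 3 = 1) (H : Hyp ι (T : Subgroup G)) :
    Subgroup.normalizer ((T : Subgroup G) : Set G) = ⊤ := by
  classical
  haveI : Fintype G := Fintype.ofFinite G
  haveI : Fact (Nat.Prime 3) := ⟨Nat.prime_three⟩
  have E := H.emb
  obtain ⟨A, B, dA, dB, tA, uA, tB, uB⟩ := exists_linear (system E)
  obtain ⟨f, f1, fT, fU, sT, sU⟩ := hom_value E A dA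
  obtain ⟨g, g1, gT, gU, s'T, s'U⟩ := hom_value E B dB
  change 3 ∣ valT E A - 1 at tA
  change 3 ∣ valU E A + 1 at uA
  change 3 ∣ valT E B + 1 at tB
  change 3 ∣ valU E B - 1 at uB
  set K : Subgroup G := f.ker ⊓ g.ker with hK
  haveI : K.Normal := inferInstance
  have hker : ∀ h : Mod, ι h ∈ K ↔ h * h * h = 1 := by
    intro h
    refine ⟨fun hh => ?_, fun e => ⟨f1 h e, g1 h e⟩⟩
    obtain ⟨k, l, i, hkl, hl⟩ : ∃ (k l : Mod) (i : Fin 4), h = k * l ∧ k * k * k = 1 ∧
        l = (![1, rep (0, 2), rep (2, 0), rep (0, 2) * rep (2, 0)] : Fin 4 → Mod) i := by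
      have := (by decide +kernel : ∀ h : Mod, ∃ i : Fin 4,
        (fun k : Mod => k * k * k = 1) (h * ((![1, rep (0, 2), rep (2, 0),
          rep (0, 2) * rep (2, 0)] : Fin 4 → Mod) i)⁻¹)) h
      obtain ⟨i, hi⟩ := this
      exact ⟨_, _, i, (inv_mul_cancel_right h _).symm, hi, rfl⟩
    subst hkl
    have e1 : f (ι l) = 1 := by
      have h0 : f (ι (k * l)) = 1 := hh.1
      rwa [map_mul, map_mul, f1 k hl.1, one_mul] at h0
    have e2 : g (ι l) = 1 := by
      have h0 : g (ι (k * l)) = 1 := hh.2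
      rwa [map_mul, map_mul, g1 k hl.1, one_mul] at h0
    obtain ⟨hk, rfl⟩ := hl
    have aT : valT E A = 1 := by omega
    have aU : valU E A = -1 := by omega
    have bT : valT E B = -1 := by omega
    have bU : valU E B = 1 := by omega
    rw [aT] at fT; rw [aU] at fU; rw [bT] at gT; rw [bU] at gU
    fin_cases i
    · simpa using hk
    · have := congrArg Units.val e2
      simp [gT] at this
      norm_num at this
    · have := congrArg Units.val e1
      simp [fU] at this
      norm_num at this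
    · have := congrArg Units.val e1
      simp [map_mul, fT, fU] at this
      norm_num at this
  have hTN : (T : Subgroup G) ≤ Subgroup.normalizer ((T : Subgroup G) : Set G) :=
    Subgroup.le_normalizer
  have hTK : (T : Subgroup G) ≤ K := fun x hx => by
    obtain ⟨h, rfl⟩ : x ∈ ι.range := H.norm ▸ hTN hx
    exact (hker h).2 ((H.mem h).1 hx)
  have hKN : ∀ x ∈ K, x ∈ Subgroup.normalizer ((T : Subgroup G) : Set G) → x ∈ (T : Subgroup G) := by
    intro x hx hxn
    obtain ⟨h, rfl⟩ : x ∈ ι.range := H.norm.symm ▸ hxn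
    exact (H.mem h).2 ((hker h).1 hx)
  obtain ⟨TK, hcoe⟩ : ∃ TK : Sylow 3 K, (TK : Subgroup K) = (T : Subgroup G).subgroupOf K :=
    ⟨T.subtype hTK, rfl⟩
  have hnc : Subgroup.normalizer ((TK : Subgroup K) : Set K) ≤
      Subgroup.centralizer ((TK : Subgroup K) : Set K) := by
    rw [hcoe]
    intro x hx
    have hxT : (x : G) ∈ (T : Subgroup G) := by
      refine hKN x x.2 (Subgroup.mem_normalizer_iff.2 fun z => ⟨fun hz => ?_, fun hz => ?_⟩)
      · exact (Subgroup.mem_normalizer_iff.1 hx ⟨z, hTK hz⟩).1 hz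
      · have hzK : z ∈ K := by
          have h2 := K.mul_mem (K.mul_mem (K.inv_mem x.2) (hTK hz)) x.2
          simpa [mul_assoc] using h2
        exact (Subgroup.mem_normalizer_iff.1 hx ⟨z, hzK⟩).2 hz
    rw [Subgroup.mem_centralizer_iff]
    intro y hy
    haveI := hab
    refine Subtype.ext ?_
    exact (congrArg Subtype.val
      (mul_comm' (⟨(y : G), hy⟩ : (T : Subgroup G)) ⟨(x : G), hxT⟩) :)
  obtain ⟨O, hO1, hcompl⟩ : ∃ O : Subgroup K, O.Normal ∧ O.IsComplement' (TK : Subgroup K) :=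
    ⟨_, MonoidHom.normal_ker _, MonoidHom.ker_transferSylow_isComplement' TK hnc⟩
  set O' : Subgroup G := O.map K.subtype with hO'
  have hnorm : (T : Subgroup G) ≤ Subgroup.normalizer (O' : Set G) := by
    intro a ha
    rw [Subgroup.mem_normalizer_iff]
    intro z
    constructor
    · rintro ⟨w, hw, rfl⟩
      exact ⟨⟨a, hTK ha⟩ * w * ⟨a, hTK ha⟩⁻¹, hO1.conj_mem w hw _, rfl⟩
    · rintro ⟨w, hw, hwe⟩
      refine ⟨⟨a, hTK ha⟩⁻¹ * w * ⟨a, hTK ha⟩, ?_, ?_⟩
      · simpa using hO1.conj_mem w hw (⟨a, hTK ha⟩⁻¹)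
      · have hwe' : (w : G) = a * z * a⁻¹ := hwe
        simp [hwe', mul_assoc]
  have hcop : (Nat.card (T : Subgroup G)).Coprime (Nat.card O') := by
    rw [hO', Subgroup.card_map_of_injective K.subtype_injective]
    have h1 := hcompl.card_mul
    have h2 : ¬ 3 ∣ (TK : Subgroup K).index := TK.not_dvd_index
    rw [hcompl.index_eq_card] at h2
    rw [show Nat.card (T : Subgroup G) = 3 ^ 2 from hcard]
    exact ((Nat.Prime.coprime_iff_not_dvd Nat.prime_three).2 h2).pow_left 2
  have hncyc : ¬ IsCyclic (T : Subgroup G) := fun hc => by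
    have h1 := IsCyclic.exponent_eq_card (α := (T : Subgroup G))
    have h2 : Monoid.exponent (T : Subgroup G) ∣ 3 :=
      Monoid.exponent_dvd_of_forall_pow_eq_one fun x => Subtype.ext (hexp x x.2)
    rw [h1, show Nat.card (T : Subgroup G) = 9 from hcard] at h2
    norm_num at h2
  haveI := hab
  have hgen := CoprimeAct.generated_by_centralizers (A := (T : Subgroup G)) (K := O') hncyc hnorm hcop
  have hObot : O' = ⊥ := by
    rw [← hgen, eq_bot_iff]
    refine iSup₂_le fun a ha x hx => ?_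
    obtain ⟨hxO, hxc⟩ := hx
    obtain ⟨h, rfl⟩ : a ∈ ι.range := H.norm ▸ hTN ha.1
    have hd : Dset h := dset_of_cube h ((H.mem h).1 ha.1) fun e => ha.2 (by rw [e, map_one])
    have hxn : x ∈ Subgroup.normalizer ((T : Subgroup G) : Set G) :=
      H.norm ▸ E.mem_range_of_commute hd (Subgroup.mem_centralizer_singleton_iff.1 hxc)
    have hxK : x ∈ K := by obtain ⟨w, -, rfl⟩ := hxO; exact w.2
    have hxT := hKN x hxK hxn
    rw [Subgroup.mem_bot, ← orderOf_eq_one_iff]
    exact Nat.eq_one_of_dvd_coprimes hcop (Subgroup.orderOf_dvd_natCard _ hxT)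
      (Subgroup.orderOf_dvd_natCard _ hxO)
  have hKT : K = (T : Subgroup G) := by
    refine le_antisymm (fun x hx => ?_) hTK
    have hObot' : O = ⊥ := (Subgroup.map_eq_bot_iff_of_injective O K.subtype_injective).1 hObot
    have h1 : (TK : Subgroup K) = ⊤ := by
      rw [hObot'] at hcompl
      exact Subgroup.isComplement'_bot_left.1 hcompl
    have h2 : (⟨x, hx⟩ : K) ∈ (TK : Subgroup K) := h1 ▸ Subgroup.mem_top _
    rwa [hcoe] at h2
  haveI : (T : Subgroup G).Normal := hKT ▸ inferInstance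
  exact Subgroup.normalizer_eq_top_iff.2 inferInstance

end Cfsg.Agent.ThreeTI.Grid
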