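import Cfsg.Agent.Lib.Char.LocalTI
import Cfsg.Agent.Lib.Char.FourTrans
import Mathlib.GroupTheory.SpecificGroups.Dihedral

/-!
The model `S₃ × S₃` of the normaliser, its characters and its classes.
-/

set_option autoImplicit false
set_option maxRecDepth 20000
set_option linter.style.haveILetI false

namespace Cfsg.Agent.ThreeTI.Grid

open Cfsg Cfsg.Agent.Char Cfsg.Agent.LocalTI

/-- The model. -/
abbrev Mod : Type := DihedralGroup 3 × DihedralGroup 3

/-- The class of an element of the dihedral group of order 6. -/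
def c3 : DihedralGroup 3 → Fin 3
  | .r i => if i = 0 then 0 else 1
  | .sr _ => 2

/-- Class representatives. -/
def rep3 : Fin 3 → DihedralGroup 3 := ![.r 0, .r 1, .sr 0]

/-- Class sizes. -/
def size3 : Fin 3 → ℤ := ![1, 2, 3]

/-- The irreducible characters of the dihedral group of order 6, on classes. -/
def th : Fin 3 → Fin 3 → ℤ := ![![1, 1, 1], ![1, 1, -1], ![2, -1, 0]]

/-- A product of two functions on classes. -/
def fn (f g : Fin 3 → ℤ) (h : Mod) : ℤ := f (c3 h.1) * g (c3 h.2)

/-- The elements with nontrivial 3-part. -/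
def Dset (h : Mod) : Prop := h * h ≠ 1

instance : DecidablePred Dset := fun h => inferInstanceAs (Decidable (h * h ≠ 1))

/-- The sign. -/
noncomputable def sgn : DihedralGroup 3 →* ℂˣ where
  toFun := fun x => match x with
    | .r _ => 1
    | .sr _ => -1
  map_one' := rfl
  map_mul' a b := by rcases a with a | a <;> rcases b with b | b <;> simp

theorem sgn_r (i : ZMod 3) : sgn (.r i) = 1 := rfl

theorem sgn_sr (i : ZMod 3) : sgn (.sr i) = -1 := rfl

/-- The natural action on three points. -/
def perm : DihedralGroup 3 →* Equiv.Perm (ZMod 3) where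
  toFun
    | .r i => Equiv.addRight i
    | .sr i => Equiv.subLeft (-i)
  map_one' := by
    show Equiv.addRight (0 : ZMod 3) = 1
    ext x; simp
  map_mul' a b := by
    rcases a with a | a <;> rcases b with b | b <;>
      simp only [DihedralGroup.r_mul_r, DihedralGroup.r_mul_sr, DihedralGroup.sr_mul_r,
        DihedralGroup.sr_mul_sr] <;>
      ext x <;> simp [Equiv.Perm.mul_apply] <;> ring

theorem gen_th (k : Fin 3) :
    Cfsg.IsGeneralizedCharacter (DihedralGroup 3) (fun x => (th k (c3 x) : ℂ)) := by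
  fin_cases k
  · have e : (fun x : DihedralGroup 3 => (th 0 (c3 x) : ℂ)) = fun _ => 1 := by
      funext x
      have : ∀ i, th 0 i = 1 := by decide
      simp [this]
    exact e ▸ IsGeneralizedCharacter.of_isCharacter isCharacter_one
  · have e : (fun x : DihedralGroup 3 => (th 1 (c3 x) : ℂ)) = fun x => (sgn x : ℂ) := by
      funext x
      rcases x with i | i
      · have : ∀ i : ZMod 3, th 1 (c3 (.r i)) = 1 := by decide
        rw [this]; simp [sgn_r]
      · simp [th, c3, sgn_sr]
    exact e ▸ IsGeneralizedCharacter.of_isCharacter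
      (IsIrrCharacter.isCharacter (isIrrCharacter_linear sgn))
  · letI : MulAction (DihedralGroup 3) (ZMod 3) := MulAction.compHom (ZMod 3) perm
    have hfix : ∀ x : DihedralGroup 3,
        ((Finset.univ.filter fun i : ZMod 3 => perm x i = i).card : ℤ) = th 2 (c3 x) + 1 := by
      decide +kernel
    have e : (fun x : DihedralGroup 3 => (th 2 (c3 x) : ℂ)) =
        FourTrans.piX (DihedralGroup 3) (ZMod 3) - fun _ => 1 := by
      funext x
      have h1 : Nat.card (MulAction.fixedBy (ZMod 3) x) =
          (Finset.univ.filter fun i : ZMod 3 => perm x i = i).card := by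
        rw [← Fintype.card_subtype, ← Nat.card_eq_fintype_card]
        rfl
      simp only [Pi.sub_apply, FourTrans.piX, h1]
      have h2 := hfix x
      have h3 : ((Finset.univ.filter fun i : ZMod 3 => perm x i = i).card : ℂ) =
          (th 2 (c3 x) : ℂ) + 1 := by exact_mod_cast h2
      rw [h3]; ring
    exact e ▸ IsGeneralizedCharacter.sub
      (IsGeneralizedCharacter.of_isCharacter (FourTrans.isCharacter_piX (ZMod 3)))
      (IsGeneralizedCharacter.of_isCharacter isCharacter_one)

/-- Integral combinations of the three characters. -/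
def Good (f : Fin 3 → ℤ) : Prop := ∃ c : Fin 3 → ℤ, ∀ i, f i = ∑ k, c k * th k i

theorem gen_good {f : Fin 3 → ℤ} (hf : Good f) :
    Cfsg.IsGeneralizedCharacter (DihedralGroup 3) (fun x => (f (c3 x) : ℂ)) := by
  obtain ⟨c, hc⟩ := hf
  have e : (fun x : DihedralGroup 3 => (f (c3 x) : ℂ)) =
      ∑ k, (c k : ℂ) • (fun x : DihedralGroup 3 => (th k (c3 x) : ℂ)) := by
    funext x
    rw [hc]
    simp [Finset.sum_apply]
  rw [e]
  exact isGeneralizedCharacter_sum _ fun k _ => IsGeneralizedCharacter.int_smul (gen_th k) _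

theorem gen_fn {f g : Fin 3 → ℤ} (hf : Good f) (hg : Good g) :
    Cfsg.IsGeneralizedCharacter Mod (fun h => (fn f g h : ℂ)) := by
  have e : (fun h : Mod => (fn f g h : ℂ)) =
      (fun h : Mod => (f (c3 (MonoidHom.fst _ _ h)) : ℂ)) *
        (fun h : Mod => (g (c3 (MonoidHom.snd _ _ h)) : ℂ)) := by
    funext h
    simp [fn]
  rw [e]
  exact IsGeneralizedCharacter.mul (IsGeneralizedCharacter.comp (gen_good hf) _)
    (IsGeneralizedCharacter.comp (gen_good hg) _)

theorem c3_conj : ∀ x y : DihedralGroup 3, c3 (y * x * y⁻¹) = c3 x := by decide +kernel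

theorem fn_cls (f g : Fin 3 → ℤ) (a b : Mod) : fn f g (b * a * b⁻¹) = fn f g a := by
  simp [fn, c3_conj]

/-- The nine classes. -/
def rep (i : Fin 3 × Fin 3) : Mod := (rep3 i.1, rep3 i.2)

theorem conj_rep : ∀ h : Mod, ∃ k : Mod, k * rep (c3 h.1, c3 h.2) * k⁻¹ = h := by decide +kernel

theorem real_class : ∀ h : Mod, ∃ k : Mod, k * h * k⁻¹ = h⁻¹ := by decide +kernel

theorem card_fibre : ∀ i : Fin 3 × Fin 3,
    ((Finset.univ.filter fun h : Mod => (c3 h.1, c3 h.2) = i).card : ℤ) =
      size3 i.1 * size3 i.2 := by decide +kernel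

theorem fn_vanish {f g : Fin 3 → ℤ} (hf : Good f) (hg : Good g)
    (h : ∀ i, ¬ Dset (rep i) → f i.1 * g i.2 = 0) : Vanish Dset (fn f g) where
  cls := fn_cls f g
  supp := fun a ha => by
    by_contra hD
    obtain ⟨k, hk⟩ := conj_rep a
    refine ha (h (c3 a.1, c3 a.2) fun hr => hD ?_)
    intro he
    refine hr ?_
    rw [← hk, show k * rep (c3 a.1, c3 a.2) * k⁻¹ * (k * rep (c3 a.1, c3 a.2) * k⁻¹) =
      k * (rep (c3 a.1, c3 a.2) * rep (c3 a.1, c3 a.2)) * k⁻¹ by group, conj_eq_one_iff] at he
    exact he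
  gen := gen_fn hf hg

theorem fn_true {f g : Fin 3 → ℤ} (hf : Good f) (hg : Good g) :
    Vanish (fun _ => True) (fn f g) := ⟨fn_cls f g, fun _ _ => trivial, gen_fn hf hg⟩

/-- The values of a character on the nine classes. -/
noncomputable def value {G : Type*} [Group G] (ι : Mod →* G) (χ : IrrCharacter G)
    (i j : Fin 3) : ℂ := (χ : G → ℂ) (ι (rep (i, j)))

/-- The multiplicity of a character in a product, from its values. -/
theorem coef_fn {G : Type*} [Group G] [Fintype G] {D : Mod → Prop} {f g : Fin 3 → ℤ}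
    (hv : Vanish D (fn f g)) (ι : Mod →* G) (χ : IrrCharacter G) :
    36 * (coef hv ι χ : ℂ) =
      ∑ i : Fin 3, ∑ j : Fin 3,
        ((f i * g j * (size3 i * size3 j) : ℤ) : ℂ) * value ι χ i j := by
  have h36 : Fintype.card Mod = 36 := by decide +kernel
  have h := coef_spec hv ι χ
  rw [h36] at h
  rw [show (36 : ℂ) = ((36 : ℕ) : ℂ) by norm_num, mul_comm, h,
    ← Fintype.sum_prod_type' (fun i j : Fin 3 =>
      ((f i * g j * (size3 i * size3 j) : ℤ) : ℂ) * value ι χ i j),
    ← Finset.sum_fiberwise Finset.univ (fun h : Mod => (c3 h.1, c3 h.2))]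
  refine Finset.sum_congr rfl fun i _ => ?_
  rw [← card_fibre i]
  have hterm : ∀ a ∈ Finset.univ.filter (fun h : Mod => (c3 h.1, c3 h.2) = i),
      (fn f g a : ℂ) * (starRingEnd ℂ) ((χ : G → ℂ) (ι a)) =
        ((f i.1 * g i.2 : ℤ) : ℂ) * value ι χ i.1 i.2 := by
    intro a ha
    obtain rfl := (Finset.mem_filter.1 ha).2
    obtain ⟨k, hk⟩ := conj_rep a
    obtain ⟨l, hl⟩ := real_class a
    rw [conj_value ι χ (isConj_iff.2 ⟨l, hl⟩)]
    congr 1
    simp only [value]
    conv_lhs => rw [← hk]
    rw [map_mul, map_mul, map_inv, IsCharacter.isClassFunction (IsIrrCharacter.isCharacter χ.2)]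
  rw [Finset.sum_congr rfl hterm, Finset.sum_const, nsmul_eq_mul]
  push_cast
  ring

end Cfsg.Agent.ThreeTI.Grid
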